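import Mathlib
import Cfsg.Agent.Helper14.AutNF

set_option autoImplicit false
set_option linter.unusedSectionVars false
set_option linter.unusedVariables false

/-!
# Largest element order of `Aut(PSL_d(q))` (S2262): definitions

Every automorphism of `PSL_d(F)` is `pslOf (slConj g * slField σ * slT ε)` (helper14, `exists_factorization`).
`τ := slField σ * slT ε` acts on `GL` by `theta σ ε` (`τ * slConj h = slConj (theta σ ε h) * τ`), `τ ^ kzero σ ε = 1`,
and `(slConj g * τ) ^ k = slConj (Nm (theta σ ε) g k) * τ ^ k`.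
-/

namespace Cfsg.Agent.Helper94.Au

open Matrix Cfsg.Agent.Helper14.AutPSL

variable {ι : Type*} [Fintype ι] [DecidableEq ι] {F : Type*} [Field F]

/-- the action of `slField σ * slT ε` on `GL` -/
def theta (σ : F ≃+* F) (ε : Bool) (h : GL ι F) : GL ι F :=
  if ε then glInvT (glMap σ h) else glMap σ h

/-- a multiple of the order of `slField σ * slT ε` -/
noncomputable def kzero (σ : F ≃+* F) (ε : Bool) : ℕ :=
  if ε then Nat.lcm (orderOf σ) 2 else orderOf σ

/-- the twisted norm `g * θ g * θ² g * ⋯ * θ^(k-1) g` -/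
def Nm {G : Type*} [Monoid G] (θ : G → G) (g : G) : ℕ → G
  | 0 => 1
  | (k + 1) => Nm θ g k * θ^[k] g

@[simp] theorem Nm_zero {G : Type*} [Monoid G] (θ : G → G) (g : G) : Nm θ g 0 = 1 := rfl
@[simp] theorem Nm_succ {G : Type*} [Monoid G] (θ : G → G) (g : G) (k : ℕ) :
    Nm θ g (k + 1) = Nm θ g k * θ^[k] g := rfl

end Cfsg.Agent.Helper94.Au
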