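import Mathlib
import Cfsg.Agent.Helper94.Au.Defs

set_option autoImplicit false
set_option linter.unusedSectionVars false
set_option linter.unusedVariables false

/-!
# (NORM) powers of `c g * τ` when `τ * c h = c (θ h) * τ`: the twisted norm

`Nm θ g 0 = 1`, `Nm θ g (k + 1) = Nm θ g k * θ^[k] g`.
* `tau_pow_comm`: `τ ^ k * c h = c (θ^[k] h) * τ ^ k` (induction on `k`; `Function.iterate_succ_apply'`).
* `norm_pow`: `(c g * τ) ^ (k + 1) = (c g * τ) ^ k * (c g * τ) = c (Nm k) * τ ^ k * c g * τ = c (Nm k) * c (θ^[k] g) * τ ^ (k+1)`.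
* `mul_theta_Nm`: `g * θ (Nm θ g k) = Nm θ g k * θ^[k] g` for a HOMOMORPHISM `θ` (induction:
  `g * θ (Nm k * θ^[k] g) = (g * θ (Nm k)) * θ^[k+1] g = Nm k * θ^[k] g * θ^[k+1] g`).
* `theta_Nm`: if `θ^[k] g = g` then `θ (Nm θ g k) = g⁻¹ * Nm θ g k * g`.
-/

namespace Cfsg.Agent.Helper94.Au

theorem tau_pow_comm {A G : Type*} [Group A] [Group G] (c : G →* A) (τ : A) (θ : G → G)
    (hθ : ∀ h : G, τ * c h = c (θ h) * τ) (h : G) (k : ℕ) :
    τ ^ k * c h = c (θ^[k] h) * τ ^ k := by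
  induction k with
  | zero => simp
  | succ k ih =>
    rw [Function.iterate_succ_apply', pow_succ', mul_assoc, ih, ← mul_assoc, hθ, mul_assoc]

theorem norm_pow {A G : Type*} [Group A] [Group G] (c : G →* A) (τ : A) (θ : G → G)
    (hθ : ∀ h : G, τ * c h = c (θ h) * τ) (g : G) (k : ℕ) :
    (c g * τ) ^ k = c (Nm θ g k) * τ ^ k := by
  induction k with
  | zero => simp
  | succ k ih =>
    rw [pow_succ, ih, Nm_succ, map_mul, pow_succ]
    have h1 := tau_pow_comm c τ θ hθ g k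
    calc c (Nm θ g k) * τ ^ k * (c g * τ) = c (Nm θ g k) * (τ ^ k * c g) * τ := by
          simp only [mul_assoc]
      _ = c (Nm θ g k) * (c (θ^[k] g) * τ ^ k) * τ := by rw [h1]
      _ = c (Nm θ g k) * c (θ^[k] g) * (τ ^ k * τ) := by simp only [mul_assoc]

theorem mul_theta_Nm {G : Type*} [Group G] (θ : G →* G) (g : G) (k : ℕ) :
    g * θ (Nm θ g k) = Nm θ g k * (⇑θ)^[k] g := by
  induction k with
  | zero => simp
  | succ k ih =>
    rw [Nm_succ, map_mul, ← mul_assoc, ih, Function.iterate_succ_apply' (⇑θ) k g]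

theorem theta_Nm {G : Type*} [Group G] (θ : G →* G) (g : G) (k : ℕ) (hk : (⇑θ)^[k] g = g) :
    θ (Nm θ g k) = g⁻¹ * Nm θ g k * g := by
  have h := mul_theta_Nm θ g k
  rw [hk] at h
  rw [mul_assoc, ← h, inv_mul_cancel_left]

end Cfsg.Agent.Helper94.Au
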