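import Mathlib
import Cfsg.Agent.Helper94.Au.Defs

set_option autoImplicit false
set_option linter.unusedSectionVars false
set_option linter.unusedVariables false

/-!
# (THETA) the action `theta σ ε` of `τ = slField σ * slT ε` on `GL`

Tools (helper14, `Cfsg/Agent/Helper14/AutNF.lean`, namespace `Cfsg.Agent.Helper14.AutPSL`): `glMap`, `glInvT` (+ `_coe` lemmas),
`slField_slConj : slField σ * slConj g = slConj (glMap σ g) * slField σ`,
`slInvT_slConj : slInvT * slConj g = slConj (glInvT g) * slInvT`, `slInvT_slField`, `slT_slField`, `slInvT_sq`,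
`slField_mul`, `slField_one`, `slT` (`slT true = slInvT`, `slT false = 1`).
* `glMap σ` and `glInvT` are multiplicative (`Units.ext` + `Matrix.map_mul`, `transpose_mul`, `mul_inv_rev`), commute with
  each other, `glInvT (glInvT h) = h`, `glMap σ (glMap ρ h) = glMap (σ * ρ) h`, `glMap 1 h = h`.
* `thetaHom`: `theta σ ε` as a monoid homomorphism.
* `tau_slConj`: for `ε = true`: `slField σ * slInvT * slConj h = slField σ * slConj (glInvT h) * slInvT
  = slConj (glMap σ (glInvT h)) * slField σ * slInvT`, and `glMap σ (glInvT h) = glInvT (glMap σ h)`.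
* `tau_pow_kzero`: `slField σ` and `slT ε` commute, so `τ ^ k = slField σ ^ k * slT ε ^ k = slField (σ ^ k) * slT ε ^ k`;
  `orderOf σ ∣ kzero`, and `slT ε ^ kzero = 1` (`slInvT_sq`, `2 ∣ lcm _ 2`).
* `theta_iterate_kzero`: `(theta σ ε)^[k] h = glMap (σ ^ k) (glInvT^[k] h)` (ε = true) resp. `glMap (σ ^ k) h`.
-/

namespace Cfsg.Agent.Helper94.Au

open Matrix Cfsg.Agent.Helper14.AutPSL

variable {ι : Type*} [Fintype ι] [DecidableEq ι] {F : Type*} [Field F]

theorem glMap_mul' (σ : F ≃+* F) (g h : GL ι F) : glMap σ (g * h) = glMap σ g * glMap σ h := by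
  unfold glMap
  exact map_mul _ g h

theorem glInvT_mul' (g h : GL ι F) : glInvT (g * h) = glInvT g * glInvT h := by
  apply Units.ext
  rw [Units.val_mul, glInvT_coe, glInvT_coe, glInvT_coe, _root_.mul_inv_rev, Units.val_mul,
    transpose_mul]

theorem glInvT_glInvT (h : GL ι F) : glInvT (glInvT h) = h := by
  apply Units.ext
  rw [glInvT_coe, glInvT_inv_coe, transpose_transpose]

theorem glMap_glInvT (σ : F ≃+* F) (h : GL ι F) : glMap σ (glInvT h) = glInvT (glMap σ h) := by
  apply Units.ext
  rw [glMap_coe, glInvT_coe, glInvT_coe, glMap_inv_coe, transpose_map]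

theorem glMap_glMap (σ ρ : F ≃+* F) (h : GL ι F) : glMap σ (glMap ρ h) = glMap (σ * ρ) h := by
  apply Units.ext
  rw [glMap_coe, glMap_coe, glMap_coe]
  ext i j
  simp [Matrix.map_apply]

theorem glMap_one' (h : GL ι F) : glMap (1 : F ≃+* F) h = h := by
  apply Units.ext
  rw [glMap_coe]
  ext i j
  simp [Matrix.map_apply]

theorem glMap_one_arg (σ : F ≃+* F) : glMap σ (1 : GL ι F) = 1 := by
  unfold glMap
  exact map_one _

theorem glInvT_one_arg : glInvT (1 : GL ι F) = 1 := by
  apply Units.ext
  rw [glInvT_coe, inv_one, Units.val_one, transpose_one]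

/-- `theta σ ε` as a homomorphism -/
def thetaHom (σ : F ≃+* F) (ε : Bool) : GL ι F →* GL ι F where
  toFun := theta σ ε
  map_one' := by
    cases ε
    · simp only [theta, Bool.false_eq_true, if_false]
      exact glMap_one_arg σ
    · simp only [theta, if_true]
      rw [glMap_one_arg, glInvT_one_arg]
  map_mul' := by
    intro g h
    cases ε
    · simp only [theta, Bool.false_eq_true, if_false]
      exact glMap_mul' σ g h
    · simp only [theta, if_true]
      rw [glMap_mul', glInvT_mul']

theorem thetaHom_apply (σ : F ≃+* F) (ε : Bool) (h : GL ι F) : thetaHom σ ε h = theta σ ε h := rfl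

theorem tau_slConj (σ : F ≃+* F) (ε : Bool) (h : GL ι F) :
    (slField σ * slT ε : MulAut (Matrix.SpecialLinearGroup ι F)) * slConj h =
      slConj (theta σ ε h) * (slField σ * slT ε) := by
  cases ε
  · simp only [theta, slT, Bool.false_eq_true, if_false, mul_one]
    exact slField_slConj σ h
  · simp only [theta, slT, if_true]
    rw [mul_assoc, slInvT_slConj, ← mul_assoc, slField_slConj, glMap_glInvT, mul_assoc]

theorem finite_ringAut [Finite F] : Finite (F ≃+* F) :=
  Finite.of_injective (fun e : F ≃+* F => (e : F → F)) DFunLike.coe_injective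

theorem kzero_pos [Finite F] (σ : F ≃+* F) (ε : Bool) : 0 < kzero σ ε := by
  have := finite_ringAut (F := F)
  have h1 : 0 < orderOf σ := orderOf_pos σ
  unfold kzero
  cases ε
  · simpa using h1
  · simp only [if_true]
    exact Nat.lcm_pos h1 (by norm_num)

theorem slField_pow (σ : F ≃+* F) (k : ℕ) :
    (slField σ : MulAut (Matrix.SpecialLinearGroup ι F)) ^ k = slField (σ ^ k) := by
  induction k with
  | zero => rw [pow_zero, pow_zero, slField_one]
  | succ k ih => rw [pow_succ, pow_succ, ih, slField_mul]

theorem orderOf_dvd_kzero (σ : F ≃+* F) (ε : Bool) : orderOf σ ∣ kzero σ ε := by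
  unfold kzero
  cases ε
  · simp
  · simp only [if_true]
    exact Nat.dvd_lcm_left _ _

theorem two_dvd_kzero_true (σ : F ≃+* F) : 2 ∣ kzero σ true := by
  unfold kzero
  simp only [if_true]
  exact Nat.dvd_lcm_right _ _

theorem tau_pow_kzero (σ : F ≃+* F) (ε : Bool) :
    (slField σ * slT ε : MulAut (Matrix.SpecialLinearGroup ι F)) ^ kzero σ ε = 1 := by
  have hc : Commute (slField σ : MulAut (Matrix.SpecialLinearGroup ι F)) (slT ε) :=
    (slT_slField ε σ).symm
  rw [hc.mul_pow, slField_pow, orderOf_dvd_iff_pow_eq_one.1 (orderOf_dvd_kzero σ ε), slField_one,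
    one_mul]
  cases ε
  · simp only [slT, Bool.false_eq_true, if_false, one_pow]
  · simp only [slT, if_true]
    obtain ⟨m, hm⟩ := two_dvd_kzero_true σ
    rw [hm, pow_mul, pow_two, slInvT_sq, one_pow]

theorem glMap_iterate (σ : F ≃+* F) (k : ℕ) (h : GL ι F) :
    (glMap σ)^[k] h = glMap (σ ^ k) h := by
  induction k with
  | zero => rw [Function.iterate_zero, id, pow_zero, glMap_one']
  | succ k ih => rw [Function.iterate_succ_apply', ih, glMap_glMap, pow_succ']

theorem theta_iterate_kzero (σ : F ≃+* F) (ε : Bool) (h : GL ι F) :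
    (theta σ ε)^[kzero σ ε] h = h := by
  have hσ : σ ^ kzero σ ε = 1 := orderOf_dvd_iff_pow_eq_one.1 (orderOf_dvd_kzero σ ε)
  cases ε
  · have h1 : theta σ false = (glMap σ : GL ι F → GL ι F) := by
      funext x
      simp [theta]
    rw [h1, glMap_iterate, hσ, glMap_one']
  · have h1 : theta σ true = (glInvT ∘ glMap σ : GL ι F → GL ι F) := by
      funext x
      simp [theta]
    have hcomm : Function.Commute (glInvT : GL ι F → GL ι F) (glMap σ) := by
      intro x
      exact (glMap_glInvT σ x).symm
    have hinv : Function.Involutive (glInvT : GL ι F → GL ι F) := glInvT_glInvT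
    have heven : Even (kzero σ true) := even_iff_two_dvd.2 (two_dvd_kzero_true σ)
    rw [h1, hcomm.comp_iterate, Function.comp_apply, glMap_iterate, hσ, glMap_one',
      hinv.iterate_even heven]
    rfl

theorem theta_theta_true (σ : F ≃+* F) (h : GL ι F) :
    theta σ true (theta σ true h) = glMap (σ * σ) h := by
  simp only [theta, if_true]
  rw [glMap_glInvT, glInvT_glInvT, glMap_glMap]

end Cfsg.Agent.Helper94.Au
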