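import Mathlib
import Cfsg.Agent.Helper94.Au.Defs
import Cfsg.Agent.Helper94.Au.P_NORM
import Cfsg.Agent.Helper94.Au.P_THETA
import Cfsg.Agent.Helper14.AutKer

set_option autoImplicit false
set_option linter.unusedSectionVars false
set_option linter.unusedVariables false

/-!
# `(slConj g * slField σ * slT ε) ^ kzero σ ε = slConj N` with `theta σ ε N = g⁻¹ * N * g`
-/

namespace Cfsg.Agent.Helper94.Au

open Matrix Cfsg.Agent.Helper14.AutPSL

variable {ι : Type*} [Fintype ι] [DecidableEq ι] {F : Type*} [Field F]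

theorem exists_norm (g : GL ι F) (σ : F ≃+* F) (ε : Bool) :
    ∃ N : GL ι F,
      (slConj g * slField σ * slT ε : MulAut (Matrix.SpecialLinearGroup ι F)) ^ kzero σ ε = slConj N ∧
      theta σ ε N = g⁻¹ * N * g ∧ N = Nm (theta σ ε) g (kzero σ ε) := by
  refine ⟨Nm (theta σ ε) g (kzero σ ε), ?_, ?_, rfl⟩
  · have h := norm_pow (slConjHom (F := F) (ι := ι)) (slField σ * slT ε) (theta σ ε)
      (fun h => tau_slConj σ ε h) g (kzero σ ε)
    rw [tau_pow_kzero, mul_one] at h
    rw [mul_assoc]
    exact h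
  · have h := theta_Nm (thetaHom (ι := ι) σ ε) g (kzero σ ε) (theta_iterate_kzero σ ε g)
    exact h

/-- the graph case: `N = g * glInvT g` -/
theorem norm_graph (g : GL ι F) :
    Nm (theta (1 : F ≃+* F) true) g (kzero (1 : F ≃+* F) true) = g * glInvT g := by
  have hk : kzero (1 : F ≃+* F) true = 2 := by
    unfold kzero
    simp
  rw [hk]
  show (1 * g) * theta (1 : F ≃+* F) true g = g * glInvT g
  rw [one_mul]
  unfold theta
  simp only [if_true]
  rw [glMap_one']

end Cfsg.Agent.Helper94.Au
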