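import Mathlib
import Cfsg.Agent.Helper94.Au.Defs
import Cfsg.Agent.Helper94.Pu.ExDefs

set_option autoImplicit false
set_option linter.unusedSectionVars false
set_option linter.unusedVariables false

/-!
# (CONJ) from `theta σ ε N = g⁻¹ * N * g` in `GL` to statements about matrices

`theta σ false N = glMap σ N`, `theta σ true N = glInvT (glMap σ N)`; `glMap_coe : (glMap σ g : Matrix) = g.1.map σ`,
`glInvT_coe : (glInvT g : Matrix) = (g⁻¹ : Matrix)ᵀ` (helper14 `AutNF.lean`).  `IsConj a b ↔ ∃ c : Mˣ, SemiconjBy ↑c a b`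
(`c * a = b * c`); here `M = Matrix ι ι F` and `GL ι F = (Matrix ι ι F)ˣ`, so `g : GL` IS a unit of the matrix monoid.
* `isConj_map_false`: `N.map σ = g⁻¹ * N * g`, conjugate to `N` by the unit `g` (`g * (g⁻¹ N g) = N * g`).
* `isConj_invT_true`: `((N.map σ)⁻¹)ᵀ = g⁻¹ N g` hence `IsConj N (((N.map σ))ᵀ)⁻¹` (note `(Aᵀ)⁻¹ = (A⁻¹)ᵀ`: `Matrix.transpose_nonsing_inv`,
  and `((glMap σ N)⁻¹ : Matrix) = (N.map σ)⁻¹`: `Matrix.coe_units_inv`).
* `isConj_map_sq_true`: apply `theta σ true` (a homomorphism, `thetaHom` of P_THETA not imported here; prove directly) twice: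
  `(N.map σ).map σ = N.map (σ * σ)` is conjugate to `N`: from `A := N`, `((A.map σ)⁻¹)ᵀ = g⁻¹ A g`; apply `X ↦ ((X.map σ)⁻¹)ᵀ` to
  both sides: LHS becomes `A.map (σ∘σ)`, RHS becomes `h⁻¹ * ((A.map σ)⁻¹)ᵀ * h` with `h = ((g.map σ)⁻¹)ᵀ`, i.e. `h⁻¹ g⁻¹ A g h`.
* `isConj_map_pow`: `IsConj (M.map ρ) M → IsConj (M.map (ρ ^ i)) M`: induction; `M.map (ρ^(i+1)) = (M.map (ρ^i)).map ρ`, and
  `IsConj X Y → IsConj (X.map ρ) (Y.map ρ)` (`ρ.mapMatrix` is a ring iso, `Units.map`).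
* `gram_of_invT`: `σ = 1`: `(N⁻¹)ᵀ = g⁻¹ N g` gives `Nᵀ * g⁻¹ * N = g⁻¹` (multiply out).
-/

namespace Cfsg.Agent.Helper94.Au

open Matrix Cfsg.Agent.Helper14.AutPSL Cfsg.Agent.Helper94.Pu

variable {ι : Type*} [Fintype ι] [DecidableEq ι] {F : Type*} [Field F]

/-! ### auxiliary lemmas (fresh names, prefix `cj_`) -/

theorem cj_theta_false (σ : F ≃+* F) (N : GL ι F) : theta σ false N = glMap σ N := by
  unfold theta; simp

theorem cj_theta_true (σ : F ≃+* F) (N : GL ι F) : theta σ true N = glInvT (glMap σ N) := by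
  unfold theta; simp

theorem cj_glMap_mul (σ : F ≃+* F) (a b : GL ι F) : glMap σ (a * b) = glMap σ a * glMap σ b := by
  unfold glMap; exact map_mul _ a b

theorem cj_glMap_inv (σ : F ≃+* F) (a : GL ι F) : glMap σ a⁻¹ = (glMap σ a)⁻¹ := by
  unfold glMap; exact map_inv _ a

theorem cj_glInvT_mul (a b : GL ι F) : glInvT (a * b) = glInvT a * glInvT b := by
  apply Units.ext
  rw [Units.val_mul, glInvT_coe, glInvT_coe, glInvT_coe, _root_.mul_inv_rev, Units.val_mul,
    transpose_mul]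

theorem cj_glInvT_inv (a : GL ι F) : glInvT a⁻¹ = (glInvT a)⁻¹ := by
  apply Units.ext
  rw [glInvT_coe, glInvT_inv_coe, inv_inv]

/-- the coercion of `glInvT (glMap σ N)` in terms of the nonsingular inverse -/
theorem cj_invT_map_coe (σ : F ≃+* F) (N : GL ι F) :
    ((glInvT (glMap σ N) : GL ι F) : Matrix ι ι F) = (((N : Matrix ι ι F).map σ).transpose)⁻¹ := by
  rw [glInvT_coe, Matrix.coe_units_inv, glMap_coe, Matrix.transpose_nonsing_inv]

/-- `X ↦ glInvT (glMap σ X)` applied twice is `glMap σ ∘ glMap σ` -/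
theorem cj_invT_map_twice (σ : F ≃+* F) (N : GL ι F) :
    glInvT (glMap σ (glInvT (glMap σ N))) = glMap σ (glMap σ N) := by
  apply Units.ext
  rw [glInvT_coe, glMap_inv_coe, glInvT_inv_coe, glMap_coe, glMap_coe, glMap_coe, transpose_map,
    transpose_transpose]

theorem cj_map_mul (σ : F ≃+* F) (M : Matrix ι ι F) :
    M.map (σ * σ : F ≃+* F) = (M.map σ).map σ := by
  ext i j
  rfl

/-- a semiconjugation in `GL` gives `IsConj` of the matrices -/
theorem cj_isConj_of_eq (c A B : GL ι F) (h : c * A = B * c) :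
    IsConj (A : Matrix ι ι F) (B : Matrix ι ι F) := by
  refine ⟨c, ?_⟩
  show (c : Matrix ι ι F) * (A : Matrix ι ι F) = (B : Matrix ι ι F) * (c : Matrix ι ι F)
  rw [← Units.val_mul, ← Units.val_mul, h]

theorem cj_isConj_map (ρ : F ≃+* F) {X Y : Matrix ι ι F} (h : IsConj X Y) :
    IsConj (X.map ρ) (Y.map ρ) := by
  have := MonoidHom.map_isConj
    ((ρ.mapMatrix : Matrix ι ι F ≃+* Matrix ι ι F) : Matrix ι ι F →* Matrix ι ι F) h
  exact this

/-! ### the six lemmas -/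

theorem isConj_map_false (σ : F ≃+* F) (g N : GL ι F) (h : theta σ false N = g⁻¹ * N * g) :
    IsConj ((N : Matrix ι ι F).map σ) (N : Matrix ι ι F) := by
  rw [cj_theta_false] at h
  have h2 : g * glMap σ N = N * g := by rw [h]; group
  have := cj_isConj_of_eq g (glMap σ N) N h2
  rwa [glMap_coe] at this

theorem isConj_invT_true (σ : F ≃+* F) (g N : GL ι F) (h : theta σ true N = g⁻¹ * N * g) :
    IsConj (N : Matrix ι ι F) (((N : Matrix ι ι F).map σ).transpose)⁻¹ := by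
  rw [cj_theta_true] at h
  have h2 : g⁻¹ * N = glInvT (glMap σ N) * g⁻¹ := by rw [h]; group
  have := cj_isConj_of_eq g⁻¹ N (glInvT (glMap σ N)) h2
  rwa [cj_invT_map_coe] at this

/-- the form needed for the unitary case: `σ x = x ^ q₀` -/
theorem SC_of_theta_true (σ : F ≃+* F) (q₀ : ℕ) (hσ : ∀ x, σ x = x ^ q₀) (g N : GL ι F)
    (h : theta σ true N = g⁻¹ * N * g) : SC q₀ (N : Matrix ι ι F) := by
  refine ⟨?_, ?_⟩
  · exact ((Matrix.isUnit_iff_isUnit_det _).mp N.isUnit).ne_zero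
  · have h1 := isConj_invT_true σ g N h
    have h2 : (N : Matrix ι ι F).map σ = (N : Matrix ι ι F).map (fun x : F => x ^ q₀) := by
      ext i j
      exact hσ _
    rwa [h2] at h1

theorem isConj_map_sq_true (σ : F ≃+* F) (g N : GL ι F) (h : theta σ true N = g⁻¹ * N * g) :
    IsConj ((N : Matrix ι ι F).map (σ * σ : F ≃+* F)) (N : Matrix ι ι F) := by
  rw [cj_theta_true] at h
  have h1 : glInvT (glMap σ (glInvT (glMap σ N))) = glInvT (glMap σ (g⁻¹ * N * g)) := by rw [h]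
  rw [cj_invT_map_twice, cj_glMap_mul, cj_glMap_mul, cj_glInvT_mul, cj_glInvT_mul, h,
    cj_glMap_inv, cj_glInvT_inv] at h1
  set k := glInvT (glMap σ g) with hk
  have h2 : (g * k) * glMap σ (glMap σ N) = N * (g * k) := by rw [h1]; group
  have := cj_isConj_of_eq (g * k) (glMap σ (glMap σ N)) N h2
  rwa [glMap_coe, glMap_coe, ← cj_map_mul] at this

theorem isConj_map_pow (ρ : F ≃+* F) (M : Matrix ι ι F) (h : IsConj (M.map ρ) M) (i : ℕ) :
    IsConj (M.map (ρ ^ i : F ≃+* F)) M := by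
  induction i with
  | zero =>
    have : M.map ((ρ ^ 0 : F ≃+* F)) = M := by
      ext a b
      rfl
    rw [this]
  | succ i ih =>
    have e : M.map ((ρ ^ (i + 1) : F ≃+* F)) = (M.map (ρ ^ i : F ≃+* F)).map ρ := by
      rw [pow_succ']
      ext a b
      rfl
    rw [e]
    exact (cj_isConj_map ρ ih).trans h

theorem gram_of_invT (g N : GL ι F) (h : theta (1 : F ≃+* F) true N = g⁻¹ * N * g) :
    (N : Matrix ι ι F)ᵀ * ((g⁻¹ : GL ι F) : Matrix ι ι F) * (N : Matrix ι ι F) =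
      ((g⁻¹ : GL ι F) : Matrix ι ι F) := by
  rw [cj_theta_true] at h
  have h0 : glMap (1 : F ≃+* F) N = N := by
    apply Units.ext
    rw [glMap_coe]
    ext a b
    rfl
  rw [h0] at h
  have h2 : (glInvT N)⁻¹ * g⁻¹ * N = g⁻¹ := by rw [h]; group
  have h3 := congrArg (fun x : GL ι F => (x : Matrix ι ι F)) h2
  simp only [Units.val_mul] at h3
  rwa [glInvT_inv_coe] at h3

end Cfsg.Agent.Helper94.Au
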