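import Mathlib
import Cfsg.Agent.Helper94.Au.Defs

set_option autoImplicit false
set_option linter.unusedSectionVars false
set_option linter.unusedVariables false

/-!
# (D2) for `2 × 2` matrices the inverse transpose is conjugation by `w = !![0, 1; -1, 0]`

For `s ∈ SL_2(F)`: `(s⁻¹)ᵀ = w * s * w⁻¹` (`s⁻¹ = adjugate s = !![s₁₁, -s₀₁; -s₁₀, s₀₀]`, `Matrix.adjugate_fin_two`,
`Matrix.SpecialLinearGroup.coe_inv`; `w⁻¹ = !![0, -1; 1, 0]`).  So `slInvT = slConj w` on `SL (Fin 2) F`, and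
`slConj g * slField σ * slInvT = slConj g * slField σ * slConj w = slConj g * slConj (glMap σ w) * slField σ = slConj (g * glMap σ w) * slField σ`
(`slField_slConj`, `slConj_mul` in `Helper14/AutNF.lean`).
-/

namespace Cfsg.Agent.Helper94.Au

open Matrix Cfsg.Agent.Helper14.AutPSL

variable {F : Type*} [Field F]

/-- the matrix `w = !![0, 1; -1, 0]` as an element of `GL_2` -/
def wTwo : GL (Fin 2) F :=
  ⟨!![0, 1; -1, 0], !![0, -1; 1, 0],
    by ext i j; fin_cases i <;> fin_cases j <;> simp [Matrix.mul_apply, Fin.sum_univ_two],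
    by ext i j; fin_cases i <;> fin_cases j <;> simp [Matrix.mul_apply, Fin.sum_univ_two]⟩

theorem wTwo_coe : ((wTwo : GL (Fin 2) F) : Matrix (Fin 2) (Fin 2) F) = !![0, 1; -1, 0] := rfl

theorem wTwo_inv_coe :
    (((wTwo : GL (Fin 2) F)⁻¹ : GL (Fin 2) F) : Matrix (Fin 2) (Fin 2) F) = !![0, -1; 1, 0] := rfl

/-- on `SL_2` the inverse transpose is conjugation by `w` -/
theorem slInvT_eq_slConj_wTwo :
    (slInvT : MulAut (Matrix.SpecialLinearGroup (Fin 2) F)) = slConj (wTwo : GL (Fin 2) F) := by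
  ext s : 1
  apply Subtype.ext
  rw [slInvT_coe, slConj_coe, wTwo_coe, wTwo_inv_coe]
  have h1 : ((s⁻¹ : Matrix.SpecialLinearGroup (Fin 2) F)).1 = adjugate s.1 :=
    Matrix.SpecialLinearGroup.coe_inv s
  rw [h1, Matrix.adjugate_fin_two]
  ext i j
  fin_cases i <;> fin_cases j <;>
    simp [Matrix.mul_apply, Fin.sum_univ_two, Matrix.vecMul, dotProduct]

theorem absorb_two (g : GL (Fin 2) F) (σ : F ≃+* F) (ε : Bool) :
    ∃ g' : GL (Fin 2) F,
      (slConj g * slField σ * slT ε : MulAut (Matrix.SpecialLinearGroup (Fin 2) F)) =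
        slConj g' * slField σ * slT false := by
  cases ε
  · exact ⟨g, rfl⟩
  · refine ⟨g * glMap σ wTwo, ?_⟩
    have h1 : (slT true : MulAut (Matrix.SpecialLinearGroup (Fin 2) F)) = slConj wTwo := by
      unfold slT
      rw [if_pos rfl, slInvT_eq_slConj_wTwo]
    have h2 : (slT false : MulAut (Matrix.SpecialLinearGroup (Fin 2) F)) = 1 := by
      unfold slT
      simp
    rw [h1, h2, mul_one, mul_assoc, slField_slConj, ← mul_assoc, ← slConj_mul]

end Cfsg.Agent.Helper94.Au
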