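import Mathlib

set_option autoImplicit false
set_option linter.unusedSectionVars false
set_option linter.unusedVariables false

/-!
# (FIX) the fixed field of a ring automorphism `ρ` of a finite field `F`: `|Fix ρ| ^ orderOf ρ = |F|`

`p := ringChar F`, `F` is a `ZMod p`-algebra (`ZMod.algebra`), every ring automorphism is `ZMod p`-linear
(`AlgEquiv.ofRingEquiv`, commutes with `algebraMap (ZMod p) F` since ring homs out of `ZMod p` are unique:
`RingHom.ext_zmod` / `Subsingleton`).  `ρ' : F ≃ₐ[ZMod p] F`, `H := Subgroup.zpowers ρ'`,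
`E := IntermediateField.fixedField H`; `IntermediateField.finrank_fixedField_eq_card : finrank (fixedField H) F = card H`
(Artin), `Nat.card_zpowers : Nat.card (zpowers ρ') = orderOf ρ'` (`= orderOf ρ`, transport along the injective hom), and
`Module.card_eq_pow_finrank` (or `card_eq_pow_finrank`): `|F| = |E| ^ finrank E F`.
`x ∈ fixedField H ↔ ∀ h ∈ H, h x = x ↔ ρ x = x` (powers of `ρ` fix what `ρ` fixes).  Return `E.toSubfield`.
-/

namespace Cfsg.Agent.Helper94.Au

theorem exists_fixed_subfield {F : Type*} [Field F] [Fintype F] (ρ : F ≃+* F) :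
    ∃ F₀ : Subfield F, (∀ x : F, x ∈ F₀ ↔ ρ x = x) ∧
      Nat.card F₀ ^ orderOf ρ = Fintype.card F := by
  classical
  have hfin : Finite (F ≃+* F) :=
    Finite.of_injective (fun e : F ≃+* F => (e : F → F)) DFunLike.coe_injective
  let H : Subgroup (F ≃+* F) := Subgroup.zpowers ρ
  have : Fintype H := Fintype.ofFinite H
  refine ⟨FixedPoints.subfield H F, ?_, ?_⟩
  · intro x
    constructor
    · intro hx
      exact hx ⟨ρ, Subgroup.mem_zpowers ρ⟩
    · intro hx g
      have hle : H ≤ MulAction.stabilizer (F ≃+* F) x := by
        apply Subgroup.zpowers_le.2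
        rw [MulAction.mem_stabilizer_iff]
        exact hx
      have := hle g.2
      rw [MulAction.mem_stabilizer_iff] at this
      exact this
  · have h1 := FixedPoints.finrank_eq_card H F
    have h2 := Module.natCard_eq_pow_finrank (K := FixedPoints.subfield H F) (V := F)
    rw [h1, Nat.card_eq_fintype_card] at h2
    rw [h2]
    have h3 : Fintype.card H = orderOf ρ := by
      rw [← Nat.card_eq_fintype_card]
      exact Nat.card_zpowers ρ
    rw [h3]

end Cfsg.Agent.Helper94.Au
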