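import Mathlib

set_option autoImplicit false
set_option linter.unusedSectionVars false
set_option linter.unusedVariables false

/-!
# (LIFT) a polynomial fixed by `ρ` has its coefficients in the fixed field

`coeff (m.map ρ) i = ρ (coeff m i)` (`Polynomial.coeff_map`), so every coefficient lies in `F₀`;
`m₀ := ∑ i, monomial i ⟨coeff m i, _⟩` (or `Polynomial.toSubring`, `Polynomial.mem_lifts`, `lifts_iff_coeff_lifts`).
`m₀.map F₀.subtype = m` (`Polynomial.ext`, `coeff_map`); degree, monicity and the constant coefficient transfer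
(`Polynomial.natDegree_map` for the injective `F₀.subtype`, `Polynomial.Monic` via leading coefficients / `Monic.of_map`... ).
-/

namespace Cfsg.Agent.Helper94.Au

open Polynomial

theorem exists_lift_of_map_eq {F : Type*} [Field F] (ρ : F ≃+* F) (F₀ : Subfield F)
    (hF₀ : ∀ x : F, x ∈ F₀ ↔ ρ x = x) (m : F[X]) (hm : m.map (ρ : F →+* F) = m) :
    ∃ m₀ : Polynomial F₀, m₀.map F₀.subtype = m ∧ m₀.natDegree = m.natDegree ∧
      (m.Monic → m₀.Monic) ∧ (m.coeff 0 ≠ 0 → m₀.coeff 0 ≠ 0) := by
  have hcoef : ∀ i, m.coeff i ∈ F₀ := by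
    intro i
    rw [hF₀]
    have h1 := congrArg (fun p => p.coeff i) hm
    simp only [Polynomial.coeff_map] at h1
    exact h1
  have hinj : Function.Injective F₀.subtype := Subtype.val_injective
  have hlift : m ∈ Polynomial.lifts F₀.subtype := by
    rw [Polynomial.lifts_iff_coeff_lifts]
    intro i
    exact ⟨⟨m.coeff i, hcoef i⟩, rfl⟩
  obtain ⟨m₀, hm₀⟩ := (Polynomial.mem_lifts m).1 hlift
  refine ⟨m₀, hm₀, ?_, ?_, ?_⟩
  · rw [← hm₀, Polynomial.natDegree_map_eq_of_injective hinj]
  · intro hmon
    rw [← hm₀] at hmon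
    exact Polynomial.monic_of_injective hinj hmon
  · intro h0 h0'
    apply h0
    rw [← hm₀, Polynomial.coeff_map, h0', map_zero]

end Cfsg.Agent.Helper94.Au
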