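import Mathlib

set_option autoImplicit false
set_option linter.unusedSectionVars false
set_option linter.unusedVariables false

/-!
# (MINP) minimal polynomials of matrices: field automorphisms, conjugation, basic properties

* `minpoly_map_ringEquiv`: `M.map ρ = ρ.mapMatrix M`; for `f : F[X]`, `aeval (M.map ρ) (f.map ρ) = (aeval M f).map ρ`
  (`Polynomial.induction_on`, or: `ρ.mapMatrix` is a ring iso `Matrix → Matrix` which is `ρ`-semilinear), so
  `(minpoly F M).map ρ` is monic and annihilates `M.map ρ`, hence `minpoly F (M.map ρ) ∣ (minpoly F M).map ρ`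
  (`minpoly.dvd`); symmetric with `ρ.symm`; both monic of equal degree ⟹ equal
  (`Polynomial.eq_of_monic_of_associated` / degree comparison).
* `minpoly_eq_of_isConj`: `c * A = B * c` with `c` a unit: `B = c A c⁻¹`, `aeval B f = c * aeval A f * c⁻¹`
  (`AlgEquiv`-conjugation, or `minpoly.algEquiv_eq`/`Matrix`-conjugation as an algebra automorphism `MulSemiringAction`...).
* `minpoly_props`: integral (`Matrix.isIntegral`), `minpoly.monic`, `Matrix.minpoly_dvd_charpoly` with `charpoly_natDegree_eq_dim`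
  gives degree `≤ d`; degree `≥ 1` (`minpoly.natDegree_pos`, the matrix ring is nontrivial as `1 ≤ d`); constant coefficient:
  if `coeff 0 = 0` then `X ∣ minpoly`, `minpoly = X * g`, `M * g(M) = 0`, `M` invertible so `g(M) = 0`, contradicting minimality
  (`minpoly.min`/degree).
* `pow_eq_smul_of_minpoly_dvd`: `aeval M (minpoly F M) = 0` (`minpoly.aeval`), so `aeval M (X ^ j - C c) = 0`,
  `M ^ j = algebraMap c = c • 1` (`Algebra.algebraMap_eq_smul_one`).
-/

namespace Cfsg.Agent.Helper94.Au

open Polynomial Matrix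

variable {F : Type*} [Field F] {d : ℕ}

/-- auxiliary (helper22): `aeval (M.map ρ) (f.map ρ) = (aeval M f).map ρ` -/
theorem aeval_map_map_h22 (ρ : F ≃+* F) (M : Matrix (Fin d) (Fin d) F) (f : F[X]) :
    aeval (M.map ρ) (f.map (ρ : F →+* F)) = (aeval M f).map ρ := by
  have h1 : ((ρ : F →+* F).mapMatrix : Matrix (Fin d) (Fin d) F →+* Matrix (Fin d) (Fin d) F).comp
      (algebraMap F (Matrix (Fin d) (Fin d) F)) =
      (algebraMap F (Matrix (Fin d) (Fin d) F)).comp (ρ : F →+* F) := by
    ext c i j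
    by_cases hij : i = j <;> simp [Matrix.algebraMap_matrix_apply, hij]
  have h2 := Polynomial.hom_eval₂ f (algebraMap F (Matrix (Fin d) (Fin d) F))
    ((ρ : F →+* F).mapMatrix : Matrix (Fin d) (Fin d) F →+* Matrix (Fin d) (Fin d) F) M
  rw [h1] at h2
  rw [aeval_def, aeval_def, Polynomial.eval₂_map]
  exact h2.symm

theorem minpoly_map_ringEquiv (ρ : F ≃+* F) (M : Matrix (Fin d) (Fin d) F) :
    minpoly F (M.map ρ) = (minpoly F M).map (ρ : F →+* F) := by
  have hmon1 : (minpoly F (M.map ρ)).Monic := minpoly.monic (Matrix.isIntegral _)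
  have hmon2 : ((minpoly F M).map (ρ : F →+* F)).Monic :=
    (minpoly.monic (Matrix.isIntegral M)).map _
  have hd1 : minpoly F (M.map ρ) ∣ (minpoly F M).map (ρ : F →+* F) := by
    apply minpoly.dvd
    rw [aeval_map_map_h22, minpoly.aeval]
    ext i j
    simp
  have hd2 : (minpoly F M).map (ρ : F →+* F) ∣ minpoly F (M.map ρ) := by
    have hM : (M.map ρ).map ρ.symm = M := by
      ext i j
      simp
    have h3 : minpoly F M ∣ (minpoly F (M.map ρ)).map (ρ.symm : F →+* F) := by
      apply minpoly.dvd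
      have := aeval_map_map_h22 ρ.symm (M.map ρ) (minpoly F (M.map ρ))
      rw [hM] at this
      rw [this, minpoly.aeval]
      ext i j
      simp
    have h4 := Polynomial.map_dvd (ρ : F →+* F) h3
    rw [Polynomial.map_map] at h4
    have h5 : (ρ : F →+* F).comp (ρ.symm : F →+* F) = RingHom.id F := by
      ext x
      simp
    rw [h5, Polynomial.map_id] at h4
    exact h4
  exact Polynomial.eq_of_monic_of_associated hmon1 hmon2 (associated_of_dvd_dvd hd1 hd2)

/-- auxiliary (helper22): a semiconjugation `c * A = B * c` passes to polynomials -/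
theorem aeval_semiconj_h22 (A B c : Matrix (Fin d) (Fin d) F) (h : c * A = B * c) (f : F[X]) :
    c * aeval A f = aeval B f * c := by
  have hpow : ∀ n : ℕ, c * A ^ n = B ^ n * c := by
    intro n
    induction n with
    | zero => simp
    | succ n ih => rw [pow_succ, ← mul_assoc, ih, mul_assoc, h, ← mul_assoc, ← pow_succ]
  rw [Polynomial.aeval_eq_sum_range, Polynomial.aeval_eq_sum_range, Finset.mul_sum, Finset.sum_mul]
  apply Finset.sum_congr rfl
  intro i _
  rw [mul_smul_comm, hpow, smul_mul_assoc]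

theorem minpoly_eq_of_isConj (A B : Matrix (Fin d) (Fin d) F) (h : IsConj A B) :
    minpoly F A = minpoly F B := by
  obtain ⟨c, hc⟩ := h
  have hc' : (c : Matrix (Fin d) (Fin d) F) * A = B * (c : Matrix (Fin d) (Fin d) F) := hc
  have hci : ((c⁻¹ : (Matrix (Fin d) (Fin d) F)ˣ) : Matrix (Fin d) (Fin d) F) * B =
      A * ((c⁻¹ : (Matrix (Fin d) (Fin d) F)ˣ) : Matrix (Fin d) (Fin d) F) := by
    have : B = (c : Matrix (Fin d) (Fin d) F) * A *
        ((c⁻¹ : (Matrix (Fin d) (Fin d) F)ˣ) : Matrix (Fin d) (Fin d) F) := by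
      rw [hc', mul_assoc, Units.mul_inv, mul_one]
    rw [this, ← mul_assoc, ← mul_assoc, Units.inv_mul, one_mul]
  have hmonA : (minpoly F A).Monic := minpoly.monic (Matrix.isIntegral A)
  have hmonB : (minpoly F B).Monic := minpoly.monic (Matrix.isIntegral B)
  have h1 : minpoly F B ∣ minpoly F A := by
    apply minpoly.dvd
    have := aeval_semiconj_h22 A B c hc' (minpoly F A)
    rw [minpoly.aeval, mul_zero] at this
    have h2 : aeval B (minpoly F A) = aeval B (minpoly F A) * (c : Matrix (Fin d) (Fin d) F) *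
        ((c⁻¹ : (Matrix (Fin d) (Fin d) F)ˣ) : Matrix (Fin d) (Fin d) F) := by
      rw [mul_assoc, Units.mul_inv, mul_one]
    rw [h2, ← this, zero_mul]
  have h2 : minpoly F A ∣ minpoly F B := by
    apply minpoly.dvd
    have := aeval_semiconj_h22 B A _ hci (minpoly F B)
    rw [minpoly.aeval, mul_zero] at this
    have h3 : aeval A (minpoly F B) = aeval A (minpoly F B) *
        ((c⁻¹ : (Matrix (Fin d) (Fin d) F)ˣ) : Matrix (Fin d) (Fin d) F) *
        (c : Matrix (Fin d) (Fin d) F) := by
      rw [mul_assoc, Units.inv_mul, mul_one]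
    rw [h3, ← this, zero_mul]
  exact Polynomial.eq_of_monic_of_associated hmonA hmonB (associated_of_dvd_dvd h2 h1)

theorem minpoly_props (hd : 1 ≤ d) (M : Matrix (Fin d) (Fin d) F) (hdet : M.det ≠ 0) :
    (minpoly F M).Monic ∧ 1 ≤ (minpoly F M).natDegree ∧ (minpoly F M).natDegree ≤ d ∧
      (minpoly F M).coeff 0 ≠ 0 := by
  have : NeZero d := ⟨by omega⟩
  have hint : IsIntegral F M := Matrix.isIntegral M
  have hmon : (minpoly F M).Monic := minpoly.monic hint
  refine ⟨hmon, minpoly.natDegree_pos hint, ?_, ?_⟩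
  · have h1 := natDegree_le_of_dvd (Matrix.minpoly_dvd_charpoly M) (Matrix.charpoly_monic M).ne_zero
    rw [Matrix.charpoly_natDegree_eq_dim, Fintype.card_fin] at h1
    exact h1
  · intro h0
    obtain ⟨g, hg⟩ := Polynomial.X_dvd_iff.2 h0
    have hg0 : g ≠ 0 := by
      rintro rfl
      rw [mul_zero] at hg
      exact hmon.ne_zero hg
    have h1 : M * aeval M g = 0 := by
      have := minpoly.aeval F M
      rw [hg, map_mul, aeval_X] at this
      exact this
    have hu : IsUnit M := (Matrix.isUnit_iff_isUnit_det M).2 (isUnit_iff_ne_zero.2 hdet)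
    have h2 : aeval M g = 0 := by
      obtain ⟨u, rfl⟩ := hu
      have := congrArg (fun X => ((u⁻¹ : (Matrix (Fin d) (Fin d) F)ˣ) : Matrix (Fin d) (Fin d) F) * X) h1
      simpa [← mul_assoc] using this
    have h3 : minpoly F M ∣ g := minpoly.dvd F M h2
    have h4 := natDegree_le_of_dvd h3 hg0
    rw [hg, natDegree_mul X_ne_zero hg0, natDegree_X] at h4
    omega

theorem pow_eq_smul_of_minpoly_dvd (M : Matrix (Fin d) (Fin d) F) (j : ℕ) (c : F)
    (h : minpoly F M ∣ X ^ j - C c) : M ^ j = c • (1 : Matrix (Fin d) (Fin d) F) := by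
  obtain ⟨g, hg⟩ := h
  have h1 : aeval M (X ^ j - C c : F[X]) = 0 := by
    rw [hg, map_mul, minpoly.aeval, zero_mul]
  rw [map_sub, map_pow, aeval_X, aeval_C, sub_eq_zero] at h1
  rw [h1, Algebra.algebraMap_eq_smul_one]

end Cfsg.Agent.Helper94.Au
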