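import Mathlib

set_option autoImplicit false
set_option linter.unusedSectionVars false
set_option linter.unusedVariables false

/-!
# (ORDB) over a finite field with `q₀` elements, a monic `m₀` of degree `k ≥ 1`, `m₀(0) ≠ 0`, divides some
`X ^ j - C c` with `c ≠ 0`, `j ≥ 1`, `(q₀ - 1) j ≤ q₀ ^ k - 1`

`R := AdjoinRoot m₀` is a finite ring with `q₀ ^ k` elements (`AdjoinRoot.powerBasis' hmon` has dimension `k`;
`Module.card_eq_pow_finrank`/`card_eq_pow_finrank`, MODEL `F1_card_adjoinRoot` in `Cfsg/Agent/Helper94/Eo/P_F1.lean`), nontrivial.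
`x := AdjoinRoot.root m₀` is a unit: `X` and `m₀` are coprime as `m₀(0) ≠ 0` (`m₀ = X * g + C (m₀.coeff 0)`:
`Polynomial.X_mul_divX_add`), so `x * (-g(x)/m₀(0)) = 1`.  `U := Rˣ` is a finite commutative group with `|U| ≤ q₀ ^ k - 1`
(`0` is not a unit; `Fintype.card_units`-style: `Nat.card Rˣ ≤ Nat.card R - 1`).  `S :=` the image of `F₀ˣ` under
`Units.map (algebraMap F₀ R)` (injective: `R` nontrivial, `F₀` a field), `|S| = q₀ - 1`.  `j := orderOf (u mod S)` in `U ⧸ S`: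
`j ∣ |U ⧸ S|` and `|U| = |U ⧸ S| * |S|` (`Subgroup.card_eq_card_quotient_mul_card_subgroup`), so `(q₀ - 1) j ≤ |U| ≤ q₀^k - 1`;
`u ^ j ∈ S` (`QuotientGroup.eq_one_iff`, `pow_orderOf_eq_one`), i.e. `x ^ j = algebraMap c`, i.e. `AdjoinRoot.mk m₀ (X ^ j - C c) = 0`,
i.e. `m₀ ∣ X ^ j - C c` (`AdjoinRoot.mk_eq_zero`).  (Alternative: helper38's `pgl_order_le` in `Cfsg/Agent/Helper38/PGLOrder.lean`
applied to the companion matrix.)
(Proof: helper70.)
-/

namespace Cfsg.Agent.Helper94.Au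

open Polynomial

theorem exists_pow_sub_C {F₀ : Type*} [Field F₀] [Fintype F₀] (m₀ : F₀[X]) (hmon : m₀.Monic)
    (hdeg : 1 ≤ m₀.natDegree) (h0 : m₀.coeff 0 ≠ 0) :
    ∃ (j : ℕ) (c : F₀), 1 ≤ j ∧ c ≠ 0 ∧
      (Fintype.card F₀ - 1) * j ≤ Fintype.card F₀ ^ m₀.natDegree - 1 ∧ m₀ ∣ X ^ j - C c := by
  classical
  -- the ring `R = F₀[X]/(m₀)`
  have hpb := AdjoinRoot.powerBasis' hmon
  haveI hfin : Module.Finite F₀ (AdjoinRoot m₀) := (AdjoinRoot.powerBasis' hmon).finite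
  haveI hfin' : Finite (AdjoinRoot m₀) := Module.finite_of_finite F₀
  have hrank : Module.finrank F₀ (AdjoinRoot m₀) = m₀.natDegree := by
    rw [(AdjoinRoot.powerBasis' hmon).finrank, AdjoinRoot.powerBasis'_dim]
  have hcardR : Nat.card (AdjoinRoot m₀) = Fintype.card F₀ ^ m₀.natDegree := by
    rw [Module.natCard_eq_pow_finrank (K := F₀) (V := AdjoinRoot m₀), hrank,
      Nat.card_eq_fintype_card]
  haveI hnt : Nontrivial (AdjoinRoot m₀) := by
    apply AdjoinRoot.nontrivial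
    rw [Polynomial.degree_eq_natDegree hmon.ne_zero]
    intro h
    have : m₀.natDegree = 0 := by exact_mod_cast h
    omega
  -- the root is a unit
  have hx : AdjoinRoot.root m₀ * (-(AdjoinRoot.mk m₀ (divX m₀)) *
      AdjoinRoot.of m₀ (m₀.coeff 0)⁻¹) = 1 := by
    have h1 : AdjoinRoot.mk m₀ (X * divX m₀ + C (m₀.coeff 0)) = 0 := by
      rw [Polynomial.X_mul_divX_add]
      exact AdjoinRoot.mk_self
    rw [map_add, map_mul, AdjoinRoot.mk_X, AdjoinRoot.mk_C] at h1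
    have h2 : AdjoinRoot.root m₀ * AdjoinRoot.mk m₀ (divX m₀) =
        -(AdjoinRoot.of m₀ (m₀.coeff 0)) := eq_neg_of_add_eq_zero_left h1
    have h3 : AdjoinRoot.of m₀ (m₀.coeff 0) * AdjoinRoot.of m₀ (m₀.coeff 0)⁻¹ = 1 := by
      rw [← map_mul, mul_inv_cancel₀ h0, map_one]
    calc AdjoinRoot.root m₀ * (-(AdjoinRoot.mk m₀ (divX m₀)) * AdjoinRoot.of m₀ (m₀.coeff 0)⁻¹)
        = -(AdjoinRoot.root m₀ * AdjoinRoot.mk m₀ (divX m₀)) *
            AdjoinRoot.of m₀ (m₀.coeff 0)⁻¹ := by ring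
      _ = 1 := by rw [h2, neg_neg, h3]
  set u : (AdjoinRoot m₀)ˣ := Units.mkOfMulEqOne _ _ hx with hu
  have hu_val : (u : AdjoinRoot m₀) = AdjoinRoot.root m₀ := rfl
  -- the scalars
  set φ : F₀ˣ →* (AdjoinRoot m₀)ˣ := Units.map (AdjoinRoot.of m₀ : F₀ →* AdjoinRoot m₀) with hφ
  have hφinj : Function.Injective φ := by
    intro a b hab
    apply Units.ext
    have h1 : ((φ a : (AdjoinRoot m₀)ˣ) : AdjoinRoot m₀) = ((φ b : (AdjoinRoot m₀)ˣ) : AdjoinRoot m₀) := by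
      rw [hab]
    exact (AdjoinRoot.of m₀).injective h1
  set S : Subgroup (AdjoinRoot m₀)ˣ := φ.range with hS
  have hcardS : Nat.card S = Fintype.card F₀ - 1 := by
    rw [← Nat.card_congr (MonoidHom.ofInjective hφinj).toEquiv, Nat.card_units,
      Nat.card_eq_fintype_card]
  -- the order of `u` modulo the scalars
  set j : ℕ := orderOf (QuotientGroup.mk u : (AdjoinRoot m₀)ˣ ⧸ S) with hj
  have hjpos : 0 < j := orderOf_pos (QuotientGroup.mk u : (AdjoinRoot m₀)ˣ ⧸ S)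
  have hjdvd : j ∣ Nat.card ((AdjoinRoot m₀)ˣ ⧸ S) :=
    orderOf_dvd_natCard (QuotientGroup.mk u : (AdjoinRoot m₀)ˣ ⧸ S)
  have hcardU : Nat.card (AdjoinRoot m₀)ˣ = Nat.card ((AdjoinRoot m₀)ˣ ⧸ S) * Nat.card S :=
    Subgroup.card_eq_card_quotient_mul_card_subgroup S
  have hUlt : Nat.card (AdjoinRoot m₀)ˣ < Nat.card (AdjoinRoot m₀) := natCard_units_lt _
  have hqpos : 0 < Nat.card ((AdjoinRoot m₀)ˣ ⧸ S) := Nat.card_pos
  have hjle : j ≤ Nat.card ((AdjoinRoot m₀)ˣ ⧸ S) := Nat.le_of_dvd hqpos hjdvd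
  have hbound : (Fintype.card F₀ - 1) * j ≤ Fintype.card F₀ ^ m₀.natDegree - 1 := by
    have h1 : (Fintype.card F₀ - 1) * j ≤ Nat.card (AdjoinRoot m₀)ˣ := by
      rw [hcardU, hcardS, mul_comm]
      exact Nat.mul_le_mul_right _ hjle
    rw [hcardR] at hUlt
    omega
  -- `u ^ j` is a scalar
  have hmem : u ^ j ∈ S := by
    rw [← QuotientGroup.eq_one_iff, QuotientGroup.mk_pow, hj]
    exact pow_orderOf_eq_one _
  obtain ⟨c, hc⟩ := hmem
  refine ⟨j, (c : F₀), hjpos, c.ne_zero, hbound, ?_⟩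
  rw [← AdjoinRoot.mk_eq_zero, map_sub, map_pow, AdjoinRoot.mk_X, AdjoinRoot.mk_C, sub_eq_zero]
  have h1 : ((φ c : (AdjoinRoot m₀)ˣ) : AdjoinRoot m₀) = ((u ^ j : (AdjoinRoot m₀)ˣ) : AdjoinRoot m₀) := by
    rw [hc]
  rw [Units.val_pow_eq_pow_val, hu_val] at h1
  exact h1.symm

end Cfsg.Agent.Helper94.Au
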