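import Mathlib
import Cfsg.Agent.Helper94.Au.P_FIX
import Cfsg.Agent.Helper94.Au.P_LIFT
import Cfsg.Agent.Helper94.Au.P_ORDB
import Cfsg.Agent.Helper94.Au.P_MINP

set_option autoImplicit false
set_option linter.unusedSectionVars false
set_option linter.unusedVariables false

/-!
# (MFIELD) glue: an invertible `N` conjugate to `N.map ρ` has a scalar power `N ^ j`, with `j` bounded by the
`PGL_d` bound over the fixed field of `ρ`

From the STATEMENTS of (FIX), (LIFT), (ORDB), (MINP).  `m := minpoly F N`; `m.map ρ = minpoly (N.map ρ) = m`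
(`minpoly_map_ringEquiv`, `minpoly_eq_of_isConj`).  `F₀` from `exists_fixed_subfield ρ`, `q₀ := Nat.card F₀ ≥ 2`
(`Fintype` instance on the subfield of a finite field: `Fintype.ofFinite`; `0 ≠ 1`), `m₀` from `exists_lift_of_map_eq`
(monic, degree `k = natDegree m ∈ [1, d]`, `m₀(0) ≠ 0` by `minpoly_props`), `j, c₀` from `exists_pow_sub_C`,
`(q₀ - 1) j ≤ q₀ ^ k - 1 ≤ q₀ ^ d - 1`.  Map the divisibility to `F`: `m = m₀.map ι ∣ (X ^ j - C c₀).map ι = X ^ j - C (ι c₀)`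
(`Polynomial.map_dvd`, `Polynomial.map_sub`, `map_pow`, `map_X`, `map_C`), then `pow_eq_smul_of_minpoly_dvd`.
-/

namespace Cfsg.Agent.Helper94.Au

open Polynomial Matrix

theorem exists_scalar_pow_of_map_conj {F : Type*} [Field F] [Fintype F] {d : ℕ} (hd : 1 ≤ d)
    (ρ : F ≃+* F) (N : Matrix (Fin d) (Fin d) F) (hdet : N.det ≠ 0)
    (hconj : IsConj (N.map ρ) N) :
    ∃ (q₀ j : ℕ) (c : F), 2 ≤ q₀ ∧ q₀ ^ orderOf ρ = Fintype.card F ∧ 1 ≤ j ∧
      (q₀ - 1) * j ≤ q₀ ^ d - 1 ∧ N ^ j = c • (1 : Matrix (Fin d) (Fin d) F) := by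
  classical
  -- the minimal polynomial is `ρ`-invariant
  have hm : (minpoly F N).map (ρ : F →+* F) = minpoly F N := by
    rw [← minpoly_map_ringEquiv ρ N]
    exact minpoly_eq_of_isConj (N.map ρ) N hconj
  obtain ⟨hmon, hdeg1, hdegd, hc0⟩ := minpoly_props hd N hdet
  -- the fixed field
  obtain ⟨F₀, hF₀, hcard⟩ := exists_fixed_subfield ρ
  have : Fintype F₀ := Fintype.ofFinite F₀
  have hq₀ : Nat.card F₀ = Fintype.card F₀ := Nat.card_eq_fintype_card
  have h2 : 2 ≤ Fintype.card F₀ := Fintype.one_lt_card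
  -- descend the minimal polynomial
  obtain ⟨m₀, hm₀map, hm₀deg, hm₀mon, hm₀c0⟩ := exists_lift_of_map_eq ρ F₀ hF₀ (minpoly F N) hm
  obtain ⟨j, c₀, hj1, hc₀, hbound, hdvd⟩ :=
    exists_pow_sub_C m₀ (hm₀mon hmon) (by rw [hm₀deg]; exact hdeg1) (hm₀c0 hc0)
  refine ⟨Fintype.card F₀, j, (c₀ : F), h2, ?_, hj1, ?_, ?_⟩
  · rw [← hq₀]
    exact hcard
  · rw [hm₀deg] at hbound
    have hpow : Fintype.card F₀ ^ (minpoly F N).natDegree ≤ Fintype.card F₀ ^ d :=
      Nat.pow_le_pow_right (by omega) hdegd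
    omega
  · apply pow_eq_smul_of_minpoly_dvd
    have h3 := Polynomial.map_dvd F₀.subtype hdvd
    rw [hm₀map] at h3
    simpa [Polynomial.map_sub, Polynomial.map_pow] using h3

end Cfsg.Agent.Helper94.Au
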