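import Mathlib
import Cfsg.Agent.Helper94.Au.P_FIX

set_option autoImplicit false
set_option linter.unusedSectionVars false
set_option linter.unusedVariables false

/-!
# (INV2) a ring automorphism `σ` of order 2 of a finite field `F`: `|F| = q₀²` and `σ x = x ^ q₀`

`F₀` from `exists_fixed_subfield σ` ((FIX), statement only): `q₀ := |F₀|`, `q₀ ^ 2 = |F|`; `q₀ = p ^ f₀` with `p = ringChar F`
prime, `f₀ ≥ 1` (`FiniteField.card` for the finite field `F₀`, `ringChar F₀ = ringChar F`; or: `q₀² = p^n`, so `q₀` is a power of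
`p` by `Nat.Prime` factorization / `(Nat.dvd_prime_pow hp).1`).
`φ : x ↦ x ^ q₀` is a ring automorphism of `F` (`iterateFrobenius`/`frobeniusEquiv` powers; injective hence bijective), it fixes `F₀`
pointwise (`FiniteField.pow_card` in `F₀`), `φ ≠ 1` (else `X ^ q₀ - X` has `q₀² > q₀` roots), `φ * φ = 1` (`x ^ (q₀²) = x`).
The automorphism group of a finite field is cyclic (generated by Frobenius: every ring automorphism of `F` is a power of the
Frobenius `x ↦ x ^ p`; Mathlib: `FiniteField`/`GaloisField`: `IsCyclic (F ≃ₐ[ZMod p] F)`, `FiniteField.frobeniusAlgEquivOfAlgebraic`,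
`bijective_frobeniusAlgEquivOfAlgebraic_pow`), and a cyclic group has at most one element of order 2, so `σ = φ`.
(Alternative: `σ` and `φ` both lie in `Gal(F/F₀)`, which has order `[F : F₀] = 2`, and both are `≠ 1`.)
-/

namespace Cfsg.Agent.Helper94.Au

theorem involution_eq_pow {F : Type*} [Field F] [Fintype F] (σ : F ≃+* F) (h2 : orderOf σ = 2) :
    ∃ (p f₀ q₀ : ℕ), p.Prime ∧ 1 ≤ f₀ ∧ q₀ = p ^ f₀ ∧ Fintype.card F = q₀ ^ 2 ∧
      ∀ x : F, σ x = x ^ q₀ := by
  classical
  obtain ⟨F₀, hfix, hcard⟩ := exists_fixed_subfield σ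
  rw [h2] at hcard
  let _ : Fintype ↥F₀ := Fintype.ofFinite ↥F₀
  obtain ⟨p, -, n, hp, hpn⟩ := FiniteField.card' ↥F₀
  have hq₀ : Nat.card ↥F₀ = Fintype.card ↥F₀ := Nat.card_eq_fintype_card
  refine ⟨p, (n : ℕ), Fintype.card ↥F₀, hp, n.pos, hpn, ?_, ?_⟩
  · rw [← hq₀]; exact hcard.symm
  -- `σ` as an `F₀`-algebra automorphism of `F`
  let σ' : F ≃ₐ[↥F₀] F := AlgEquiv.ofRingEquiv (f := σ) (by
    intro r
    exact (hfix (r : F)).mp r.2)
  have hrank : Module.finrank ↥F₀ F = 2 := by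
    have h1 := Module.natCard_eq_pow_finrank (K := ↥F₀) (V := F)
    rw [Nat.card_eq_fintype_card, ← hcard] at h1
    have h2' : 1 < Nat.card ↥F₀ := by
      rw [hq₀]; exact Fintype.one_lt_card
    exact (Nat.pow_right_injective h2' h1).symm
  obtain ⟨m, hm⟩ := (FiniteField.bijective_frobeniusAlgEquivOfAlgebraic_pow ↥F₀ F).2 σ'
  have hm2 : (m : ℕ) < 2 := by
    have h5 : (m : ℕ) < Module.finrank ↥F₀ F := m.2
    omega
  have hm' : FiniteField.frobeniusAlgEquivOfAlgebraic ↥F₀ F ^ (m : ℕ) = σ' := hm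
  intro x
  rcases Nat.lt_succ_iff_lt_or_eq.mp hm2 with h0 | h1
  · -- `m = 0`: `σ = 1`, impossible
    exfalso
    have h00 : (m : ℕ) = 0 := by omega
    rw [h00, pow_zero] at hm'
    have hσ1 : σ = 1 := by
      ext y
      have h6 := DFunLike.congr_fun hm' y
      have h7 : σ' y = σ y := rfl
      rw [h7] at h6
      exact h6.symm
    rw [hσ1, orderOf_one] at h2
    omega
  · rw [h1, pow_one] at hm'
    have := DFunLike.congr_fun hm' x
    have h3 : σ' x = σ x := rfl
    rw [h3] at this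
    rw [← this]
    rfl

end Cfsg.Agent.Helper94.Au
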