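import Mathlib
import Cfsg.Agent.Helper94.Au.Defs
import Cfsg.Agent.Helper94.Au.P_INV2
import Cfsg.Agent.Helper94.Au.P_CONJ
import Cfsg.Agent.Helper94.Pu.Upper
import Cfsg.Agent.Helper94.Pu.P_EX1
import Cfsg.Agent.Helper94.Pu.P_EX3

set_option autoImplicit false
set_option linter.unusedSectionVars false
set_option linter.unusedVariables false

/-!
# (MUNI) glue, graph-field involution: `theta σ true N = g⁻¹ N g`, `orderOf σ = 2` ⟹ `N ^ E` scalar with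
`E ≤ Mx p f₀ q₀ d` (the `PGU_d(q₀)` bound of S2263)

From STATEMENTS on main: `involution_eq_pow` (INV2) gives `p f₀ q₀` with `|F| = q₀²`, `σ x = x ^ q₀`;
`SC_of_theta_true σ q₀ hσ g N h : SC q₀ (N : Matrix)` (CONJ); `Cfsg.Agent.Helper94.Pu.exists_gu_of_SC hK (Equiv.refl (Fin d)) N hSC`
gives `X : GU d F q₀` with `X ^ j = μ • 1 ↔ N ^ j = μ • 1`; `E := orderOf (QuotientGroup.mk X)` in `GU ⧸ center`
(`1 ≤ E`: finite group, `orderOf_pos`; `Finite ↥(GU d F q₀)` as a subgroup of the finite `GL (Fin d) F`);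
`Cfsg.Agent.Helper94.Pu.upper p f₀ d q₀ hp hf₀ hq hK hd (mk X) : E ≤ Mx p f₀ q₀ d`;
`(mk X) ^ E = 1` so `X ^ E ∈ center` (`QuotientGroup.eq_one_iff`), so `X ^ E = μ • 1`
(`Cfsg.Agent.Helper94.Pu.mem_center_GU_iff hK (hn : 1 ≤ d)`, and `((X ^ E : GU) : Matrix) = (X : Matrix) ^ E`), so `N ^ E = μ • 1`.
-/

namespace Cfsg.Agent.Helper94.Au

open Matrix Cfsg.Agent.Helper14.AutPSL Cfsg.Agent.Helper94.Pu

theorem exists_scalar_pow_unitary {F : Type*} [Field F] [Fintype F] {d : ℕ} (hd : 3 ≤ d)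
    (σ : F ≃+* F) (h2 : orderOf σ = 2) (g N : GL (Fin d) F)
    (h : theta σ true N = g⁻¹ * N * g) :
    ∃ (p f₀ q₀ E : ℕ) (μ : F), p.Prime ∧ 1 ≤ f₀ ∧ q₀ = p ^ f₀ ∧ Fintype.card F = q₀ ^ 2 ∧ 1 ≤ E ∧
      E ≤ Mx p f₀ q₀ d ∧
      (N : Matrix (Fin d) (Fin d) F) ^ E = μ • (1 : Matrix (Fin d) (Fin d) F) := by
  classical
  obtain ⟨p, f₀, q₀, hp, hf₀, hq, hK, hσ⟩ := involution_eq_pow σ h2
  have hSC := SC_of_theta_true σ q₀ hσ g N h
  obtain ⟨X, hX⟩ := exists_gu_of_SC hK (Equiv.refl (Fin d)) (N : Matrix (Fin d) (Fin d) F) hSC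
  have hfin : Finite ↥(Cfsg.GU d F q₀) := inferInstance
  have hfinQ : Finite (↥(Cfsg.GU d F q₀) ⧸ Subgroup.center ↥(Cfsg.GU d F q₀)) := inferInstance
  set x : ↥(Cfsg.GU d F q₀) ⧸ Subgroup.center ↥(Cfsg.GU d F q₀) := QuotientGroup.mk X with hx
  have hE1 : 1 ≤ orderOf x := orderOf_pos x
  have hE2 : orderOf x ≤ Mx p f₀ q₀ d := upper p f₀ d q₀ hp hf₀ hq hK hd x
  have hpow : x ^ orderOf x = 1 := pow_orderOf_eq_one x
  have hmem : X ^ orderOf x ∈ Subgroup.center ↥(Cfsg.GU d F q₀) := by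
    rw [← QuotientGroup.eq_one_iff, QuotientGroup.mk_pow]
    exact hpow
  obtain ⟨μ, hμ⟩ := (mem_center_GU_iff hK (by omega : 1 ≤ d) (X ^ orderOf x)).mp hmem
  refine ⟨p, f₀, q₀, orderOf x, μ, hp, hf₀, hq, hK, hE1, hE2, ?_⟩
  apply (hX (orderOf x) μ).mp
  rw [← hμ]
  simp

end Cfsg.Agent.Helper94.Au
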