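import Mathlib
import Cfsg.Agent.Helper94.Pu.Defs

set_option autoImplicit false
set_option linter.unusedSectionVars false
set_option linter.unusedVariables false

/-!
# (NUM) the final inequalities for the field, graph-field cosets (all machine-checked for q₀ < 40, e < 8, d < 9)

`J := (q₀ ^ d - 1) / (q₀ - 1) = 1 + q₀ + ⋯ + q₀ ^ (d - 1)` (`Nat.geomSum_eq`/`Nat.pred_mul_geom_sum_le`), `j ≤ J ≤ 2 q₀ ^ (d - 1)`,
and `(q ^ d - 1) = (q - 1)(1 + q + ⋯ + q ^ (d - 1)) ≥ (q - 1)(q ^ (d - 1) + q ^ (d - 2))`.  So it suffices that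
`mult * J ≤ 1 + q + ⋯ + q ^ (d-1)` with `q = q₀ ^ e`.
* `num_field` (`mult = e ≥ 2`, `d ≥ 2`, `(d, q) ≠ (2, 4)`): `d = 2`: `e (q₀ + 1) ≤ q₀ ^ e + 1` (true for `e ≥ 3`, and for `e = 2` iff `q₀ ≥ 3`;
  `e = 2, q₀ = 2` is `q = 4`); `d ≥ 3`: `e * 2 q₀ ^ (d-1) ≤ q₀ ^ (e (d-1))`-type estimates (`e ≤ 2 ^ (e - 1) ≤ q₀ ^ (e-1)`).
* `num_gf_odd` (`mult = 2 e`, `e ≥ 3`, `d ≥ 3`).
* `num_gf_even` (`mult = 2 r`, `r ≥ 2`, `q₁ ≥ 4`, `d ≥ 3`).
* `num_unitary` (`q = q₀²`, `E ≤ Mx p f₀ q₀ d`, `d ≥ 3`): `Mx p f₀ q₀ d ≤ q₀ ^ (d - 1) + q₀` in all four cases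
  (unfold `Cfsg.Agent.Helper94.Pu.Mx`; for `q₀ = 2`, `d` even: `4 (2 ^ (d - 3) + 1) = 2 ^ (d - 1) + 4`, use `≤ q₀^(d-1) + 4` there), and
  `2 (q₀² - 1)(q₀ ^ (d-1) + 4) ≤ q₀ ^ (2 d) - 1` for `d ≥ 3` (tightest: `q₀ = 2, d = 3`: `2 * 3 * 6 = 36 ≤ 63`; `q₀ = 2, d = 4`: `72 ≤ 255`).
-/

namespace Cfsg.Agent.Helper94.Au

open Cfsg.Agent.Helper94.Pu

/-- `2 (k+1) ≤ B ^ k` for `B ≥ 4`, `k ≥ 1` -/
theorem NUM_pow1 {B : ℕ} (hB : 4 ≤ B) : ∀ k : ℕ, 1 ≤ k → 2 * (k + 1) ≤ B ^ k := by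
  intro k hk
  induction k, hk using Nat.le_induction with
  | base => simpa using hB
  | succ k hk ih =>
    rw [pow_succ]
    nlinarith

/-- `4 (k+1) ≤ B ^ k` for `B ≥ 4`, `k ≥ 2` -/
theorem NUM_pow2 {B : ℕ} (hB : 4 ≤ B) : ∀ k : ℕ, 2 ≤ k → 4 * (k + 1) ≤ B ^ k := by
  intro k hk
  induction k, hk using Nat.le_induction with
  | base => nlinarith
  | succ k hk ih =>
    rw [pow_succ]
    nlinarith

/-- `4 (k+1) ≤ B ^ k` for `B ≥ 16`, `k ≥ 1` -/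
theorem NUM_pow3 {B : ℕ} (hB : 16 ≤ B) : ∀ k : ℕ, 1 ≤ k → 4 * (k + 1) ≤ B ^ k := by
  intro k hk
  induction k, hk using Nat.le_induction with
  | base => simpa using (by omega : 8 ≤ B)
  | succ k hk ih =>
    rw [pow_succ]
    nlinarith

/-- the core estimate -/
theorem NUM_core {b e d j M : ℕ} (hb : 2 ≤ b) (hd : 1 ≤ d) (he : 1 ≤ e)
    (hM : 2 * M ≤ (b ^ (d - 1)) ^ (e - 1)) (hj : (b - 1) * j ≤ b ^ d - 1) :
    (b ^ e - 1) * (M * j) ≤ (b ^ e) ^ d - 1 := by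
  obtain ⟨d', rfl⟩ : ∃ d', d = d' + 1 := ⟨d - 1, by omega⟩
  obtain ⟨e', rfl⟩ : ∃ e', e = e' + 1 := ⟨e - 1, by omega⟩
  obtain ⟨c, rfl⟩ : ∃ c, b = c + 2 := ⟨b - 2, by omega⟩
  simp only [Nat.add_sub_cancel] at hM hj
  set x := (c + 2) ^ d' with hx
  have hxpos : 1 ≤ x := Nat.one_le_pow _ _ (by omega)
  have hbd : (c + 2) ^ (d' + 1) = (c + 2) * x := by rw [pow_succ]; ring
  -- `j ≤ 2 x`
  have hj2 : j ≤ 2 * x := by
    rw [hbd] at hj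
    have h1 : (c + 2 - 1) = c + 1 := by omega
    rw [h1] at hj
    have h2 : (c + 1) * j + 1 ≤ (c + 2) * x := by
      have : 1 ≤ (c + 2) * x := by nlinarith
      omega
    by_contra hcon
    have hcon' : 2 * x + 1 ≤ j := by omega
    nlinarith
  -- `M j ≤ y := b ^ (e d')`
  set y := x ^ e' with hy
  have hypos : 1 ≤ y := Nat.one_le_pow _ _ hxpos
  have hMj : M * j ≤ y * x := by
    calc M * j ≤ M * (2 * x) := Nat.mul_le_mul_left _ hj2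
      _ = (2 * M) * x := by ring
      _ ≤ y * x := Nat.mul_le_mul_right _ hM
  set Q := (c + 2) ^ (e' + 1) with hQ
  have hQpos : 2 ≤ Q := by
    calc 2 ≤ (c + 2) ^ 1 := by simp
      _ ≤ (c + 2) ^ (e' + 1) := Nat.pow_le_pow_right (by omega) (by omega)
  have hQd : Q ^ (d' + 1) = (y * x) * Q := by
    have e1 : Q ^ (d' + 1) = (c + 2) ^ ((e' + 1) * (d' + 1)) := by
      rw [hQ, ← pow_mul]
    have e2 : (y * x) * Q = (c + 2) ^ (d' * e' + d' + (e' + 1)) := by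
      rw [hQ, hy, hx, ← pow_mul, ← pow_add, ← pow_add]
    rw [e1, e2]
    congr 1
    ring
  rw [hQd]
  have hyx : 1 ≤ y * x := Nat.mul_pos hypos hxpos
  have h3 : (Q - 1) * (M * j) ≤ (Q - 1) * (y * x) := Nat.mul_le_mul_left _ hMj
  have h4 : (Q - 1) * (y * x) + y * x = (y * x) * Q := by
    obtain ⟨Q', hQ'⟩ : ∃ Q', Q = Q' + 1 := ⟨Q - 1, by omega⟩
    rw [hQ']
    simp only [Nat.add_sub_cancel]
    ring
  omega

/-- `e (b + 1) ≤ b ^ e + 1` -/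
theorem NUM_two {b : ℕ} (hb : 2 ≤ b) : ∀ e : ℕ, 3 ≤ e → e * (b + 1) ≤ b ^ e + 1 := by
  intro e he
  induction e, he using Nat.le_induction with
  | base =>
    have h1 : b ^ 3 = b * (b * b) := by ring
    rw [h1]
    nlinarith [Nat.mul_le_mul hb hb]
  | succ e he ih =>
    rw [pow_succ]
    have h2 : b + 1 ≤ b ^ e := by
      calc b + 1 ≤ b * b := by nlinarith
        _ = b ^ 2 := by ring
        _ ≤ b ^ e := Nat.pow_le_pow_right (by omega) (by omega)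
    nlinarith

theorem num_field {q₀ e q d j : ℕ} (hq₀ : 2 ≤ q₀) (he : 2 ≤ e) (hq : q₀ ^ e = q) (hd : 2 ≤ d)
    (h24 : ¬ (d = 2 ∧ q = 4)) (hj : (q₀ - 1) * j ≤ q₀ ^ d - 1) :
    (q - 1) * (e * j) ≤ q ^ d - 1 := by
  subst hq
  rcases Nat.lt_or_ge d 3 with hd3 | hd3
  · -- `d = 2`
    have hd2 : d = 2 := by omega
    subst hd2
    obtain ⟨c, rfl⟩ : ∃ c, q₀ = c + 2 := ⟨q₀ - 2, by omega⟩
    have hj1 : j ≤ c + 3 := by
      have h1 : (c + 2 - 1) = c + 1 := by omega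
      have h2 : (c + 2) ^ 2 - 1 = (c + 1) * (c + 3) := by
        have : (c + 2) ^ 2 = (c + 1) * (c + 3) + 1 := by ring
        omega
      rw [h1, h2] at hj
      exact Nat.le_of_mul_le_mul_left hj (by omega)
    have hkey : e * (c + 2 + 1) ≤ (c + 2) ^ e + 1 := by
      rcases Nat.lt_or_ge e 3 with he3 | he3
      · have he2 : e = 2 := by omega
        subst he2
        have hc : 1 ≤ c := by
          by_contra hcon
          have hc0 : c = 0 := by omega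
          apply h24
          subst hc0
          exact ⟨rfl, by norm_num⟩
        nlinarith
      · exact NUM_two (by omega) e he3
    set Q := (c + 2) ^ e with hQ
    have hQpos : 1 ≤ Q := Nat.one_le_pow _ _ (by omega)
    have h3 : e * j ≤ Q + 1 := by
      calc e * j ≤ e * (c + 3) := Nat.mul_le_mul_left _ hj1
        _ ≤ Q + 1 := hkey
    have h4 : (Q - 1) * (e * j) ≤ (Q - 1) * (Q + 1) := Nat.mul_le_mul_left _ h3
    have h5 : (Q - 1) * (Q + 1) + 1 = Q ^ 2 := by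
      obtain ⟨Q', hQ'⟩ : ∃ Q', Q = Q' + 1 := ⟨Q - 1, by omega⟩
      rw [hQ']
      simp only [Nat.add_sub_cancel]
      ring
    omega
  · -- `d ≥ 3`
    apply NUM_core hq₀ (by omega) (by omega) _ hj
    have hB : 4 ≤ q₀ ^ (d - 1) := by
      calc 4 = 2 ^ 2 := by norm_num
        _ ≤ q₀ ^ 2 := Nat.pow_le_pow_left hq₀ 2
        _ ≤ q₀ ^ (d - 1) := Nat.pow_le_pow_right (by omega) (by omega)
    have := NUM_pow1 hB (e - 1) (by omega)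
    have h1 : e - 1 + 1 = e := by omega
    rwa [h1] at this

theorem num_gf_odd {q₀ e q d j : ℕ} (hq₀ : 2 ≤ q₀) (he : 3 ≤ e) (hq : q₀ ^ e = q) (hd : 3 ≤ d)
    (hj : (q₀ - 1) * j ≤ q₀ ^ d - 1) : (q - 1) * (2 * e * j) ≤ q ^ d - 1 := by
  subst hq
  apply NUM_core hq₀ (by omega) (by omega) _ hj
  have hB : 4 ≤ q₀ ^ (d - 1) := by
    calc 4 = 2 ^ 2 := by norm_num
      _ ≤ q₀ ^ 2 := Nat.pow_le_pow_left hq₀ 2
      _ ≤ q₀ ^ (d - 1) := Nat.pow_le_pow_right (by omega) (by omega)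
  have := NUM_pow2 hB (e - 1) (by omega)
  have h1 : e - 1 + 1 = e := by omega
  rw [h1] at this
  omega

theorem num_gf_even {q₁ r q d j : ℕ} (hq₁ : 4 ≤ q₁) (hr : 2 ≤ r) (hq : q₁ ^ r = q) (hd : 3 ≤ d)
    (hj : (q₁ - 1) * j ≤ q₁ ^ d - 1) : (q - 1) * (2 * r * j) ≤ q ^ d - 1 := by
  subst hq
  apply NUM_core (by omega) (by omega) (by omega) _ hj
  have hB : 16 ≤ q₁ ^ (d - 1) := by
    calc 16 = 4 ^ 2 := by norm_num
      _ ≤ q₁ ^ 2 := Nat.pow_le_pow_left hq₁ 2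
      _ ≤ q₁ ^ (d - 1) := Nat.pow_le_pow_right (by omega) (by omega)
  have := NUM_pow3 hB (r - 1) (by omega)
  have h1 : r - 1 + 1 = r := by omega
  rw [h1] at this
  omega

/-- `Mx p f₀ q₀ d ≤ q₀ ^ (d-1) + q₀ + 2` -/
theorem NUM_Mx_le {p f₀ q₀ d : ℕ} (hp : p.Prime) (hf₀ : 1 ≤ f₀) (hq₀ : q₀ = p ^ f₀) (hd : 3 ≤ d) :
    Mx p f₀ q₀ d ≤ q₀ ^ (d - 1) + q₀ + 2 := by
  have hp2 : 2 ≤ p := hp.two_le
  have hq2 : 2 ≤ q₀ := by
    rw [hq₀]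
    calc 2 ≤ p ^ 1 := by simpa using hp2
      _ ≤ p ^ f₀ := Nat.pow_le_pow_right (by omega) hf₀
  unfold Mx
  split_ifs with h1 h2 h3
  · omega
  · -- `f₀ = 1`, `q₀ = p`
    have hf1 : f₀ = 1 := by omega
    subst hf1
    rw [pow_one] at hq₀
    subst hq₀
    have h4 : q₀ ^ (d - 1) = q₀ ^ (d - 2) * q₀ := by
      rw [← pow_succ]
      congr 1
      omega
    rw [h4]
    nlinarith
  · omega
  · -- `q₀ = 2`
    have hq : q₀ = 2 := by omega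
    subst hq
    have h4 : (2 : ℕ) ^ (d - 1) = 4 * 2 ^ (d - 3) := by
      have : d - 1 = (d - 3) + 2 := by omega
      rw [this, pow_add]
      ring
    rw [h4]
    omega

theorem num_unitary {p f₀ q₀ q d E : ℕ} (hp : p.Prime) (hf₀ : 1 ≤ f₀) (hq₀ : q₀ = p ^ f₀)
    (hq : q = q₀ ^ 2) (hd : 3 ≤ d) (hE : E ≤ Mx p f₀ q₀ d) : (q - 1) * (2 * E) ≤ q ^ d - 1 := by
  have hMx := NUM_Mx_le hp hf₀ hq₀ hd
  have hp2 : 2 ≤ p := hp.two_le
  have hq2 : 2 ≤ q₀ := by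
    rw [hq₀]
    calc 2 ≤ p ^ 1 := by simpa using hp2
      _ ≤ p ^ f₀ := Nat.pow_le_pow_right (by omega) hf₀
  subst hq
  set a := q₀ with ha
  set x := a ^ (d - 1) with hx
  have hxa : a ^ 2 ≤ x := Nat.pow_le_pow_right (by omega) (by omega)
  have hE2 : 2 * E ≤ x * x := by
    have h1 : E ≤ x + a + 2 := le_trans hE hMx
    have h2 : 4 ≤ a ^ 2 := by nlinarith
    have h3 : a + 2 ≤ a ^ 2 := by nlinarith
    nlinarith
  have hpow : (a ^ 2) ^ d = (x * x) * (a ^ 2) := by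
    have h1 : d = (d - 1) + 1 := by omega
    rw [hx]
    conv_lhs => rw [h1]
    rw [pow_succ, ← pow_mul, ← pow_add]
    congr 1
    congr 1
    ring
  rw [hpow]
  set Q := a ^ 2 with hQ
  have hQ4 : 4 ≤ Q := by nlinarith
  have hxx : 1 ≤ x * x := by nlinarith
  have h3 : (Q - 1) * (2 * E) ≤ (Q - 1) * (x * x) := Nat.mul_le_mul_left _ hE2
  have h4 : (Q - 1) * (x * x) + x * x = (x * x) * Q := by
    obtain ⟨Q', hQ'⟩ : ∃ Q', Q = Q' + 1 := ⟨Q - 1, by omega⟩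
    rw [hQ']
    simp only [Nat.add_sub_cancel]
    ring
  omega

end Cfsg.Agent.Helper94.Au
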