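import Mathlib
import Cfsg.Agent.Helper94.Au.Defs
import Cfsg.Agent.Helper14.AutKer

set_option autoImplicit false
set_option linter.unusedSectionVars false
set_option linter.unusedVariables false

/-!
# (ORD) `α ^ k = slConj N`, `N ^ j` scalar ⟹ `orderOf (pslOf α) ≤ k * j`

`α ^ (k * j) = (slConj N) ^ j = slConj (N ^ j)` (`slConj_mul`/`slConjHom` is a hom: `map_pow`), and `N ^ j` scalar lies in the
centre of `GL` (`mem_center_of_scalar` in `Helper14/AutKer.lean`), so `slConj (N ^ j) = 1` (`slConj_eq_one_of_mem_center`).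
Then `pslOf α ^ (k * j) = pslOf (α ^ (k * j)) = 1` and `orderOf_le_of_pow_eq_one`.
-/

namespace Cfsg.Agent.Helper94.Au

open Matrix Cfsg.Agent.Helper14.AutPSL

variable {ι : Type*} [Fintype ι] [DecidableEq ι] {F : Type*} [Field F]

theorem orderOf_le_of_norm (α : MulAut (Matrix.SpecialLinearGroup ι F)) (k : ℕ) (N : GL ι F)
    (hα : α ^ k = slConj N) (j : ℕ) (c : F)
    (hN : (N : Matrix ι ι F) ^ j = c • (1 : Matrix ι ι F)) (hkj : 0 < k * j) :
    orderOf (pslOf α) ≤ k * j := by
  have hNj : N ^ j ∈ Subgroup.center (GL ι F) := by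
    apply mem_center_of_scalar (N ^ j) c
    rw [Units.val_pow_eq_pow_val]
    exact hN
  have h1 : α ^ (k * j) = 1 := by
    rw [pow_mul, hα]
    have h2 : (slConj N) ^ j = slConj (N ^ j) := (map_pow slConjHom N j).symm
    rw [h2]
    exact slConj_eq_one_of_mem_center hNj
  have h3 : pslOf α ^ (k * j) = 1 := by
    rw [← map_pow, h1, map_one]
  exact orderOf_le_of_pow_eq_one hkj h3

end Cfsg.Agent.Helper94.Au
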