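import Mathlib
import Cfsg.Agent.Helper94.Au.Defs
import Cfsg.Agent.Helper14.AutKer
import Cfsg.Agent.Helper38.PGLOrder

set_option autoImplicit false
set_option linter.unusedSectionVars false
set_option linter.unusedVariables false

/-!
# (PGL) inner-diagonal automorphisms: the `PGL_d(q)` bound and the Singer class

`Cfsg.Agent.Helper14.AutPSL.inndiagHom d F : GL (Fin d) F →* MulAut PSL`, `inndiagHom_apply g : inndiagHom d F g = pslOf (slConj g)`,
`ker_inndiagHom (hn : 2 ≤ d) : (inndiagHom d F).ker = Subgroup.center (GL (Fin d) F)` (`Helper14/AutKer.lean`).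
So `QuotientGroup.kerLift`/`QuotientGroup.lift` gives an INJECTIVE hom `GL ⧸ center → MulAut PSL` (rewrite the kernel), and
`orderOf (pslOf (slConj g)) = orderOf (QuotientGroup.mk g : GL ⧸ center)` (`orderOf_injective`).
helper38 (`Cfsg/Agent/Helper38/PGLOrder.lean`; check namespace): `pgl_order_le (hd : 0 < d) g : (q - 1) * orderOf (mk g) ≤ q ^ d - 1`,
`exists_pgl_order_eq (hd : 0 < d) : ∃ x : GL ⧸ center, (q - 1) * orderOf x = q ^ d - 1` (`QuotientGroup.mk_surjective`).
-/

namespace Cfsg.Agent.Helper94.Au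

open Matrix Cfsg.Agent.Helper14.AutPSL

/-- the order of an inner-diagonal automorphism is the order of the matrix modulo scalars -/
theorem orderOf_inndiag_aux {F : Type*} [Field F] {d : ℕ} (hd : 2 ≤ d) (g : GL (Fin d) F) :
    orderOf (pslOf (slConj g) : MulAut (Matrix.SpecialLinearGroup (Fin d) F ⧸
        Subgroup.center (Matrix.SpecialLinearGroup (Fin d) F))) =
      orderOf (QuotientGroup.mk g : GL (Fin d) F ⧸ Subgroup.center (GL (Fin d) F)) := by
  rw [← inndiagHom_apply]
  apply orderOf_eq_orderOf_iff.mpr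
  intro n
  rw [← map_pow, ← QuotientGroup.mk_pow, QuotientGroup.eq_one_iff, ← MonoidHom.mem_ker,
    ker_inndiagHom hd]

theorem inndiag_order_le {F : Type*} [Field F] [Fintype F] {d : ℕ} (hd : 2 ≤ d)
    (g : GL (Fin d) F) :
    (Fintype.card F - 1) *
      orderOf (pslOf (slConj g) : MulAut (Matrix.SpecialLinearGroup (Fin d) F ⧸
        Subgroup.center (Matrix.SpecialLinearGroup (Fin d) F))) ≤ Fintype.card F ^ d - 1 := by
  rw [orderOf_inndiag_aux hd g]
  exact Cfsg.Agent.Helper38.pgl_order_le (by omega) g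

theorem exists_inndiag_order_eq {F : Type*} [Field F] [Fintype F] {d : ℕ} (hd : 2 ≤ d) :
    ∃ g : GL (Fin d) F, (Fintype.card F - 1) *
      orderOf (pslOf (slConj g) : MulAut (Matrix.SpecialLinearGroup (Fin d) F ⧸
        Subgroup.center (Matrix.SpecialLinearGroup (Fin d) F))) = Fintype.card F ^ d - 1 := by
  obtain ⟨x, hx⟩ := Cfsg.Agent.Helper38.exists_pgl_order_eq (F := F) (d := d) (by omega)
  obtain ⟨g, rfl⟩ := QuotientGroup.mk_surjective x
  exact ⟨g, by rw [orderOf_inndiag_aux hd g]; exact hx⟩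

end Cfsg.Agent.Helper94.Au
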