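import Mathlib

set_option autoImplicit false
set_option linter.unusedSectionVars false
set_option linter.unusedVariables false

/-!
# (Q2) the field with two elements: self-reciprocal polynomials of degree 4 and 5

`|F| = 2`: every element is `0` or `1`, `1 + 1 = 0`.  `χ` monic of degree `d ∈ {4, 5}` with `χ.reverse = χ`: the constant
coefficient is `1` and `coeff i = coeff (d - i)` (`Polynomial.coeff_reverse`, `revAt`), so
`d = 4`: `χ = X⁴ + a X³ + b X² + a X + 1`, `a, b ∈ {0, 1}`: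
  `(0,0)`: `X⁴ + 1 ∣ X⁴ - 1` (equal, char 2), `K = 4`;   `(1,0)`: `X⁴+X³+X+1 = (X+1)(X³+1) ∣ X⁶ - 1 = (X³+1)²`, `K = 6`;
  `(0,1)`: `X⁴+X²+1 = (X²+X+1)² ∣ X⁶ - 1`, `K = 6`;      `(1,1)`: `X⁴+X³+X²+X+1 ∣ X⁵ - 1`, `K = 5`.       (`2 K ≤ 15`)
`d = 5`: `χ = X⁵ + a X⁴ + b X³ + b X² + a X + 1`:
  `(0,0)`: `X⁵ + 1`, `K = 5`;   `(1,0)`: `X⁵+X⁴+X+1 = (X+1)(X⁴+1) = (X+1)⁵ ∣ X⁸ - 1 = (X+1)⁸`, `K = 8`;
  `(0,1)`: `X⁵+X³+X²+1 = (X²+1)(X³+1) ∣ X¹² - 1 = (X³+1)⁴ = (X⁴+1)³`, `K = 12`;   `(1,1)`: `X⁵+X⁴+X³+X²+X+1 ∣ X⁶ - 1`, `K = 6`.   (`2 K ≤ 31`)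
Each divisibility: exhibit the cofactor and check by `ring_nf` + `CharP` (`(2 : F[X]) = 0`; e.g. prove `CharP F 2`, then
`CharTwo.add_self_eq_zero`/`CharTwo.two_eq_zero`, or rewrite `X ^ K - 1 = X ^ K + 1`).
-/

namespace Cfsg.Agent.Helper94.Au

open Polynomial

theorem q2_deg4 {F : Type*} [Field F] (h2 : (2 : F[X]) = 0) (a b : F) (ha : a = 0 ∨ a = 1)
    (hb : b = 0 ∨ b = 1) :
    ∃ K : ℕ, 1 ≤ K ∧ 2 * K ≤ 15 ∧
      (X ^ 4 + C a * X ^ 3 + C b * X ^ 2 + C a * X + 1 : F[X]) ∣ X ^ K - 1 := by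
  rcases ha with rfl | rfl <;> rcases hb with rfl | rfl <;> simp only [map_zero, map_one]
  · refine ⟨4, by norm_num, by norm_num, ⟨1, ?_⟩⟩
    linear_combination (-1 : F[X]) * h2
  · refine ⟨6, by norm_num, by norm_num, ⟨X ^ 2 + 1, ?_⟩⟩
    linear_combination (-1 - X ^ 2 - X ^ 4 : F[X]) * h2
  · refine ⟨6, by norm_num, by norm_num, ⟨X ^ 2 + X + 1, ?_⟩⟩
    linear_combination (-1 - X - X ^ 2 - X ^ 3 - X ^ 4 - X ^ 5 : F[X]) * h2
  · refine ⟨5, by norm_num, by norm_num, ⟨X - 1, ?_⟩⟩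
    ring

theorem q2_deg5 {F : Type*} [Field F] (h2 : (2 : F[X]) = 0) (a b : F) (ha : a = 0 ∨ a = 1)
    (hb : b = 0 ∨ b = 1) :
    ∃ K : ℕ, 1 ≤ K ∧ 2 * K ≤ 31 ∧
      (X ^ 5 + C a * X ^ 4 + C b * X ^ 3 + C b * X ^ 2 + C a * X + 1 : F[X]) ∣ X ^ K - 1 := by
  rcases ha with rfl | rfl <;> rcases hb with rfl | rfl <;> simp only [map_zero, map_one]
  · refine ⟨5, by norm_num, by norm_num, ⟨1, ?_⟩⟩
    linear_combination (-1 : F[X]) * h2
  · refine ⟨12, by norm_num, by norm_num, ⟨X ^ 7 + X ^ 5 + X ^ 4 + X ^ 3 + X ^ 2 + 1, ?_⟩⟩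
    linear_combination (-1 - X ^ 2 - X ^ 3 - X ^ 4 - 2 * X ^ 5 - X ^ 6 - 2 * X ^ 7 - X ^ 8 - X ^ 9
      - X ^ 10 : F[X]) * h2
  · refine ⟨8, by norm_num, by norm_num, ⟨X ^ 3 + X ^ 2 + X + 1, ?_⟩⟩
    linear_combination (-1 - X - X ^ 2 - X ^ 3 - X ^ 4 - X ^ 5 - X ^ 6 - X ^ 7 : F[X]) * h2
  · refine ⟨6, by norm_num, by norm_num, ⟨X - 1, ?_⟩⟩
    ring

theorem q2_small {F : Type*} [Field F] [Fintype F] (hF : Fintype.card F = 2) (χ : F[X])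
    (hχ : χ.Monic) (hd : χ.natDegree = 4 ∨ χ.natDegree = 5) (hrev : χ.reverse = χ) :
    ∃ K : ℕ, 1 ≤ K ∧ 2 * K ≤ 2 ^ χ.natDegree - 1 ∧ χ ∣ X ^ K - 1 := by
  have h01 : ∀ x : F, x = 0 ∨ x = 1 := by
    intro x
    by_cases hx : x = 0
    · left; exact hx
    · right
      have := FiniteField.pow_card_sub_one_eq_one x hx
      rw [hF] at this
      simpa using this
  have h2F : (1 + 1 : F) = 0 := by
    rcases h01 (1 + 1) with h | h
    · exact h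
    · exfalso
      exact one_ne_zero (α := F) (by linear_combination h)
  have h2 : (2 : F[X]) = 0 := by
    have : (2 : F[X]) = C (1 + 1 : F) := by rw [C_add, C_1]; norm_num
    rw [this, h2F, C_0]
  have hlead : χ.coeff χ.natDegree = 1 := hχ.coeff_natDegree
  have hrevc : ∀ i, i ≤ χ.natDegree → χ.coeff i = χ.coeff (χ.natDegree - i) := by
    intro i hi
    conv_lhs => rw [← hrev]
    rw [coeff_reverse, revAt_le hi]
  have hsum := χ.as_sum_range_C_mul_X_pow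
  rcases hd with hd | hd
  · rw [hd] at hlead hrevc hsum
    have e0 : χ.coeff 0 = 1 := by rw [hrevc 0 (by norm_num)]; exact hlead
    have e1 : χ.coeff 1 = χ.coeff 3 := hrevc 1 (by norm_num)
    have hχ' : χ = X ^ 4 + C (χ.coeff 3) * X ^ 3 + C (χ.coeff 2) * X ^ 2 + C (χ.coeff 3) * X + 1 := by
      conv_lhs => rw [hsum]
      simp only [Finset.sum_range_succ, Finset.sum_range_zero]
      rw [e0, e1, hlead]
      simp only [map_one, pow_zero, pow_one, one_mul, zero_add]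
      ring
    obtain ⟨K, hK1, hK2, hK3⟩ := q2_deg4 h2 (χ.coeff 3) (χ.coeff 2) (h01 _) (h01 _)
    refine ⟨K, hK1, ?_, ?_⟩
    · rw [hd]; norm_num; exact hK2
    · rw [hχ']; exact hK3
  · rw [hd] at hlead hrevc hsum
    have e0 : χ.coeff 0 = 1 := by rw [hrevc 0 (by norm_num)]; exact hlead
    have e1 : χ.coeff 1 = χ.coeff 4 := hrevc 1 (by norm_num)
    have e2 : χ.coeff 2 = χ.coeff 3 := hrevc 2 (by norm_num)
    have hχ' : χ = X ^ 5 + C (χ.coeff 4) * X ^ 4 + C (χ.coeff 3) * X ^ 3 + C (χ.coeff 3) * X ^ 2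
        + C (χ.coeff 4) * X + 1 := by
      conv_lhs => rw [hsum]
      simp only [Finset.sum_range_succ, Finset.sum_range_zero]
      rw [e0, e1, e2, hlead]
      simp only [map_one, pow_zero, pow_one, one_mul, zero_add]
      ring
    obtain ⟨K, hK1, hK2, hK3⟩ := q2_deg5 h2 (χ.coeff 4) (χ.coeff 3) (h01 _) (h01 _)
    refine ⟨K, hK1, ?_, ?_⟩
    · rw [hd]; norm_num; exact hK2
    · rw [hχ']; exact hK3

end Cfsg.Agent.Helper94.Au
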