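import Mathlib
import Cfsg.Agent.Helper94.Pu.P_PP

set_option autoImplicit false
set_option linter.unusedSectionVars false
set_option linter.unusedVariables false

/-!
# (R3NUM0) numerics of the graph coset, case `m' = 0` (only eigenvalues `±1`)

`d = a + b ≥ 3`, `s := max a b ≥ 2` (as `d ≤ 2 s`), `P := p ^ clog p s`, `c := 1` (`p = 2`, then `b = 0`, `a = d = s`) or `2`.
Claim `2 (q - 1) c P ≤ q ^ d - 1`, `q = p ^ f`, excluding `q = 2 ∧ d ≤ 5`.  (Machine-checked for q ≤ 16, d ≤ 9.)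
You may use `Cfsg.Agent.Helper94.Pu.pclog_le_mul : 2 ≤ m → p ^ clog p m ≤ p * (m - 1)`, `pclog_two`, `pclog_three`, `pclog_le_pow`.
* `p = 2`: `P ≤ 2 (d - 1)`.  `q ≥ 4`: `4 (q - 1)(d - 1) ≤ q ^ d - 1` (induction on `d ≥ 3`; `d = 3`: `8 ≤ q² + q + 1`).
  `q = 2`: `d ≥ 6`, `4 (d - 1) ≤ 2 ^ d - 1`.
* `p` odd (`q ≥ 3`, `c = 2`): `d = 3`: `s ∈ {2, 3}`, `P = p` (`pclog_two`, `pclog_three`), `4 (q - 1) p ≤ q³ - 1` as `4 p ≤ 4 q ≤ q² + q + 1`.
  `d ≥ 4`: `P ≤ p (s - 1) ≤ q (d - 1)`, `4 (q - 1) q (d - 1) ≤ q ^ d - 1` (induction from `d = 4`: `12 q (q - 1) ≤ q⁴ - 1` for `q ≥ 3`).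
-/

namespace Cfsg.Agent.Helper94.Au

/-- `q = Q + 1 ≥ 4`, `d = n + 3`: `4 (q - 1)(d - 1) + 1 ≤ q ^ d`. -/
theorem r3n0_A (Q : ℕ) (hQ : 3 ≤ Q) (n : ℕ) : 4 * Q * (n + 2) + 1 ≤ (Q + 1) ^ (n + 3) := by
  induction n with
  | zero =>
    obtain ⟨r, rfl⟩ : ∃ r, Q = r + 3 := ⟨Q - 3, by omega⟩
    ring_nf
    nlinarith [Nat.zero_le r, Nat.zero_le (r ^ 2), Nat.zero_le (r ^ 3)]
  | succ n ih =>
    have h1 : (Q + 1) ^ (n + 1 + 3) = (Q + 1) * (Q + 1) ^ (n + 3) := by ring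
    rw [h1]
    have h2 : (Q + 1) * (4 * Q * (n + 2) + 1) ≤ (Q + 1) * (Q + 1) ^ (n + 3) :=
      Nat.mul_le_mul_left _ ih
    have h3 : 4 * Q * (n + 1 + 2) + 1 ≤ (Q + 1) * (4 * Q * (n + 2) + 1) := by
      nlinarith [mul_le_mul hQ hQ (by norm_num) (by omega), Nat.zero_le (Q * Q * n)]
    exact le_trans h3 h2

/-- `q = 2`, `d = n + 6`: `4 (d - 1) + 1 ≤ 2 ^ d`. -/
theorem r3n0_B (n : ℕ) : 4 * (n + 5) + 1 ≤ 2 ^ (n + 6) := by
  induction n with
  | zero => norm_num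
  | succ n ih =>
    have h1 : 2 ^ (n + 1 + 6) = 2 * 2 ^ (n + 6) := by ring
    rw [h1]
    omega

/-- `q = Q + 1 ≥ 3`, `d = n + 4`: `4 (q - 1) q (d - 1) + 1 ≤ q ^ d`. -/
theorem r3n0_C (Q : ℕ) (hQ : 2 ≤ Q) (n : ℕ) :
    4 * Q * (Q + 1) * (n + 3) + 1 ≤ (Q + 1) ^ (n + 4) := by
  induction n with
  | zero =>
    obtain ⟨r, rfl⟩ : ∃ r, Q = r + 2 := ⟨Q - 2, by omega⟩
    ring_nf
    nlinarith [Nat.zero_le r, Nat.zero_le (r ^ 2), Nat.zero_le (r ^ 3), Nat.zero_le (r ^ 4)]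
  | succ n ih =>
    have h1 : (Q + 1) ^ (n + 1 + 4) = (Q + 1) * (Q + 1) ^ (n + 4) := by ring
    rw [h1]
    have h2 : (Q + 1) * (4 * Q * (Q + 1) * (n + 3) + 1) ≤ (Q + 1) * (Q + 1) ^ (n + 4) :=
      Nat.mul_le_mul_left _ ih
    have h3 : 4 * Q * (Q + 1) * (n + 1 + 3) + 1 ≤ (Q + 1) * (4 * Q * (Q + 1) * (n + 3) + 1) := by
      nlinarith [mul_le_mul hQ hQ (by norm_num) (by omega), Nat.zero_le (Q * Q * n),
        Nat.zero_le (Q * Q * Q * n), Nat.zero_le (Q * Q * Q), Nat.zero_le (Q * n)]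
    exact le_trans h3 h2

theorem r3_num_zero {p f q d a b : ℕ} (hp : p.Prime) (hf : 1 ≤ f) (hq : q = p ^ f) (hd : 3 ≤ d)
    (hex : ¬ (q = 2 ∧ d ≤ 5)) (hsum : a + b = d) (hb : p = 2 → b = 0) :
    2 * (q - 1) * ((if p = 2 then 1 else 2) * p ^ Nat.clog p (max a b)) ≤ q ^ d - 1 := by
  have hp2 : 2 ≤ p := hp.two_le
  have hqp : p ≤ q := by
    rw [hq]
    calc p = p ^ 1 := (pow_one p).symm
      _ ≤ p ^ f := Nat.pow_le_pow_right hp.pos hf
  have hs2 : 2 ≤ max a b := by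
    rcases le_total a b with h | h
    · rw [max_eq_right h]; omega
    · rw [max_eq_left h]; omega
  have hsd : max a b ≤ d := by
    rcases le_total a b with h | h
    · rw [max_eq_right h]; omega
    · rw [max_eq_left h]; omega
  obtain ⟨Q, rfl⟩ : ∃ Q, q = Q + 1 := ⟨q - 1, by omega⟩
  have hqd : 1 ≤ (Q + 1) ^ d := Nat.one_le_pow _ _ (by omega)
  rw [Nat.add_sub_cancel]
  by_cases h2 : p = 2
  · -- `p = 2`
    have hb0 := hb h2
    subst hb0
    rw [if_pos h2, one_mul]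
    have had : a = d := by omega
    subst had
    rw [max_eq_left (Nat.zero_le a), h2]
    have hP : 2 ^ Nat.clog 2 a ≤ 2 * (a - 1) := Pu.pclog_le_mul Nat.prime_two (by omega)
    have hmain : 2 * Q * (2 * (a - 1)) + 1 ≤ (Q + 1) ^ a := by
      by_cases hf1 : f = 1
      · -- `q = 2`
        have hQ1 : Q = 1 := by
          rw [hf1, pow_one, h2] at hq; omega
        subst hQ1
        have ha6 : 6 ≤ a := by
          by_contra hlt
          exact hex ⟨rfl, by omega⟩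
        obtain ⟨n, rfl⟩ : ∃ n, a = n + 6 := ⟨a - 6, by omega⟩
        have := r3n0_B n
        have e : n + 6 - 1 = n + 5 := by omega
        rw [e]
        norm_num
        omega
      · -- `q ≥ 4`
        have hQ3 : 3 ≤ Q := by
          have h4 : p ^ 2 ≤ p ^ f := Nat.pow_le_pow_right hp.pos (by omega)
          rw [← hq, h2] at h4
          omega
        obtain ⟨n, rfl⟩ : ∃ n, a = n + 3 := ⟨a - 3, by omega⟩
        have := r3n0_A Q hQ3 n
        have e : n + 3 - 1 = n + 2 := by omega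
        rw [e]
        nlinarith
    have h3 : 2 * Q * 2 ^ Nat.clog 2 a ≤ 2 * Q * (2 * (a - 1)) := Nat.mul_le_mul_left _ hP
    omega
  · -- `p` odd
    rw [if_neg h2]
    have hp3 : 3 ≤ p := by omega
    have hQ2 : 2 ≤ Q := by omega
    by_cases hd3 : d = 3
    · -- `d = 3`
      have hP : p ^ Nat.clog p (max a b) = p := by
        have : max a b = 2 ∨ max a b = 3 := by omega
        rcases this with h | h
        · rw [h]; exact Pu.pclog_two hp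
        · rw [h, Pu.pclog_three hp, if_neg h2]
      rw [hP, hd3]
      have h1 : 2 * Q * (2 * p) ≤ 2 * Q * (2 * (Q + 1)) :=
        Nat.mul_le_mul_left _ (Nat.mul_le_mul_left _ hqp)
      have h2' : 2 * Q * (2 * (Q + 1)) + 1 ≤ (Q + 1) ^ 3 := by
        nlinarith [mul_le_mul hQ2 hQ2 (by norm_num) (by omega), Nat.zero_le (Q * Q * Q)]
      omega
    · -- `d ≥ 4`
      have hP : p ^ Nat.clog p (max a b) ≤ p * (max a b - 1) := Pu.pclog_le_mul hp hs2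
      have hP2 : p * (max a b - 1) ≤ (Q + 1) * (d - 1) :=
        Nat.mul_le_mul hqp (by omega)
      obtain ⟨n, rfl⟩ : ∃ n, d = n + 4 := ⟨d - 4, by omega⟩
      have hC := r3n0_C Q hQ2 n
      have e : n + 4 - 1 = n + 3 := by omega
      rw [e] at hP2
      have h1 : 2 * Q * (2 * p ^ Nat.clog p (max a b)) ≤ 2 * Q * (2 * ((Q + 1) * (n + 3))) :=
        Nat.mul_le_mul_left _ (Nat.mul_le_mul_left _ (le_trans hP hP2))
      have h3 : 2 * Q * (2 * ((Q + 1) * (n + 3))) = 4 * Q * (Q + 1) * (n + 3) := by ring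
      omega

end Cfsg.Agent.Helper94.Au
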