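import Mathlib
import Cfsg.Agent.Helper94.Pu.P_PP

set_option autoImplicit false
set_option linter.unusedSectionVars false
set_option linter.unusedVariables false

/-!
# (R3NUM1) numerics of the graph coset, case `m' ≥ 1`

`d = a + b + 2 m' ≥ 3`, `s := max a b`, `P := p ^ clog p s` (`= 1` if `s = 0`), `c := if p = 2 then 1 else 2`,
`(q - 1) Kψ ≤ q ^ (m' + 1)`, `Kψ` even if `p` odd.  Claim `2 (q - 1) lcm (Kψ, c P) ≤ q ^ d - 1` unless `q = 2 ∧ d ≤ 5`.
(Machine-checked for q ≤ 16, d ≤ 9, all admissible Kψ.)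
`lcm (Kψ, c P) ≤ Kψ * P`: for `p = 2`, `c = 1` (`Nat.lcm_le_mul`-style: `lcm a b ∣ a * b`); for `p` odd `Kψ = 2 K'`, and
`lcm (2 K', 2 P) = 2 lcm (K', P) ≤ 2 K' P` (`Nat.lcm_mul_left`).  So LHS `≤ 2 q ^ (m' + 1) P`.
* `s = 0`: `P = 1`, `d = 2 m'`, `m' ≥ 2`: `2 q ^ (m' + 1) ≤ q ^ (2 m') - 1` iff `q ^ (m'+1) (q ^ (m'-1) - 2) ≥ 1`: true for `m' ≥ 3`, and for
  `m' = 2` when `q ≥ 3` (`q = 2, d = 4` is excluded).
* `s ≥ 1`: `P ≤ q ^ (s - 1)` (`Cfsg.Agent.Helper94.Pu.pclog_le_pow`), LHS `≤ 2 q ^ (m' + s)`; `d = (m' + s) + γ`, `γ := m' + a + b - s ≥ 1`.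
  `γ ≥ 2`: `2 q^(m'+s) ≤ q^(m'+s+2) - 1`.  `γ = 1` (`m' = 1`, `min a b = 0`): fine for `q ≥ 3` (`q^(1+s) (q - 2) ≥ 1`).
  `q = 2` (`p = 2`, `b = 0`, `a = s`, `d = a + 2 ≥ 6`, `a ≥ 4`): `Kψ ≤ 4`, `P ≤ 2 (a - 1)` (`pclog_le_mul`), `2 * 4 * 2 (a - 1) = 16 (a - 1) ≤ 2 ^ (a + 2) - 1`.
-/

namespace Cfsg.Agent.Helper94.Au

theorem r3num1_four_mul_le_two_pow (a : ℕ) (ha : 4 ≤ a) : 4 * a ≤ 2 ^ a := by
  induction a, ha using Nat.le_induction with
  | base => norm_num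
  | succ n hn ih => rw [pow_succ]; omega

theorem r3num1_lcm_le {p Kψ P : ℕ} (hK1 : 1 ≤ Kψ) (hP : 0 < P) (hKe : p ≠ 2 → Even Kψ) :
    Nat.lcm Kψ ((if p = 2 then 1 else 2) * P) ≤ Kψ * P := by
  by_cases h2 : p = 2
  · rw [if_pos h2, one_mul]
    exact Nat.le_of_dvd (Nat.mul_pos hK1 hP) (Nat.lcm_dvd_mul _ _)
  · rw [if_neg h2]
    obtain ⟨K', hK'⟩ := hKe h2
    have hK'pos : 0 < K' := by omega
    have h2K : Kψ = 2 * K' := by omega
    rw [h2K, Nat.lcm_mul_left, mul_assoc]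
    exact Nat.mul_le_mul_left _ (Nat.le_of_dvd (Nat.mul_pos hK'pos hP) (Nat.lcm_dvd_mul _ _))

theorem r3_num_pos {p f q d a b m' Kψ : ℕ} (hp : p.Prime) (hf : 1 ≤ f) (hq : q = p ^ f)
    (hd : 3 ≤ d) (hex : ¬ (q = 2 ∧ d ≤ 5)) (hsum : a + b + 2 * m' = d) (hm' : 1 ≤ m')
    (hb : p = 2 → b = 0) (hK1 : 1 ≤ Kψ) (hK : (q - 1) * Kψ ≤ q ^ (m' + 1))
    (hKe : p ≠ 2 → Even Kψ) :
    2 * (q - 1) * Nat.lcm Kψ ((if p = 2 then 1 else 2) * p ^ Nat.clog p (max a b)) ≤ q ^ d - 1 := by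
  have hp2 : 2 ≤ p := hp.two_le
  have hq2 : 2 ≤ q := by
    rw [hq]
    calc 2 ≤ p := hp2
      _ = p ^ 1 := (pow_one p).symm
      _ ≤ p ^ f := Nat.pow_le_pow_right (by omega) hf
  have hq0 : 0 < q := by omega
  obtain ⟨s, hs⟩ : ∃ s : ℕ, s = max a b := ⟨_, rfl⟩
  obtain ⟨t, ht⟩ : ∃ t : ℕ, t = min a b := ⟨_, rfl⟩
  have hst : s + t = a + b := by rw [hs, ht]; exact max_add_min a b
  rw [← hs]
  obtain ⟨P, hP⟩ : ∃ P : ℕ, P = p ^ Nat.clog p s := ⟨_, rfl⟩
  rw [← hP]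
  have hPpos : 0 < P := by rw [hP]; positivity
  have hL := r3num1_lcm_le (p := p) hK1 hPpos hKe
  have hmain : 2 * (q - 1) * Nat.lcm Kψ ((if p = 2 then 1 else 2) * P) ≤ 2 * q ^ (m' + 1) * P := by
    calc 2 * (q - 1) * Nat.lcm Kψ ((if p = 2 then 1 else 2) * P)
        ≤ 2 * (q - 1) * (Kψ * P) := Nat.mul_le_mul_left _ hL
      _ = 2 * ((q - 1) * Kψ) * P := by ring
      _ ≤ 2 * q ^ (m' + 1) * P := by gcongr
  refine hmain.trans ?_
  have hd' : d = m' + s + (t + m') := by omega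
  rcases Nat.eq_zero_or_pos s with hs0 | hspos
  · -- `s = 0`
    have hP1 : P = 1 := by rw [hP, hs0, Nat.clog_zero_right, pow_zero]
    have ht0 : t = 0 := by
      have : t ≤ s := by rw [hs, ht]; exact min_le_max
      omega
    rw [hP1, mul_one]
    have hm2 : 2 ≤ m' := by omega
    have hdm : d = (m' + 1) + (m' - 1) := by omega
    have hX : 0 < q ^ (m' + 1) := by positivity
    rw [hdm, pow_add q (m' + 1) (m' - 1)]
    rcases Nat.lt_or_ge m' 3 with hlt | hge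
    · have hm2' : m' = 2 := by omega
      have hq3 : 3 ≤ q := by
        by_contra hlt3
        exact hex ⟨by omega, by omega⟩
      have h1 : q ^ (m' - 1) = q := by rw [hm2']; norm_num
      rw [h1]
      have : 3 * q ^ (m' + 1) ≤ q ^ (m' + 1) * q := by
        rw [mul_comm]; exact Nat.mul_le_mul_left _ hq3
      omega
    · have h4 : 4 ≤ q ^ (m' - 1) := by
        calc 4 = 2 ^ 2 := by norm_num
          _ ≤ q ^ 2 := Nat.pow_le_pow_left hq2 2
          _ ≤ q ^ (m' - 1) := Nat.pow_le_pow_right hq0 (by omega)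
      have : 4 * q ^ (m' + 1) ≤ q ^ (m' + 1) * q ^ (m' - 1) := by
        rw [mul_comm]; exact Nat.mul_le_mul_left _ h4
      omega
  · -- `s ≥ 1`
    have hPle : P ≤ q ^ (s - 1) := by
      rw [hP]; exact Cfsg.Agent.Helper94.Pu.pclog_le_pow hp hf hq hspos
    have hY : 0 < q ^ (m' + s) := by positivity
    have hstep : 2 * q ^ (m' + 1) * P ≤ 2 * q ^ (m' + s) := by
      calc 2 * q ^ (m' + 1) * P ≤ 2 * q ^ (m' + 1) * q ^ (s - 1) := Nat.mul_le_mul_left _ hPle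
        _ = 2 * q ^ (m' + s) := by
          rw [mul_assoc, ← pow_add]
          congr 2
          omega
    rcases Nat.lt_or_ge (t + m') 2 with hγ | hγ
    · -- `γ = 1`
      have hm1 : m' = 1 := by omega
      have ht0 : t = 0 := by omega
      rcases Nat.lt_or_ge q 3 with hq3 | hq3
      · -- `q = 2`
        have hq2' : q = 2 := by omega
        have hp2' : p = 2 := by
          have hdvd : p ∣ 2 := by
            rw [← hq2', hq]
            exact dvd_pow_self p (by omega)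
          exact (Nat.prime_dvd_prime_iff_eq hp Nat.prime_two).1 hdvd
        have hb0 := hb hp2'
        have hsa : s = a := by rw [hs, hb0]; exact max_eq_left (Nat.zero_le a)
        have hd6 : 6 ≤ d := by
          by_contra hlt
          exact hex ⟨hq2', by omega⟩
        have ha4 : 4 ≤ s := by omega
        have hPle2 : P ≤ 2 * (s - 1) := by
          rw [hP, hp2']
          exact Cfsg.Agent.Helper94.Pu.pclog_le_mul Nat.prime_two (by omega)
        have h4a := r3num1_four_mul_le_two_pow s ha4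
        have hds : d = s + 2 := by omega
        rw [hq2', hm1, hds]
        have e1 : (2 : ℕ) ^ (1 + 1) = 4 := by norm_num
        have e2 : (2 : ℕ) ^ (s + 2) = 4 * 2 ^ s := by rw [pow_add]; ring
        rw [e1, e2]
        omega
      · -- `q ≥ 3`
        refine hstep.trans ?_
        have hdd : d = (m' + s) + 1 := by omega
        rw [hdd, pow_succ]
        have : 3 * q ^ (m' + s) ≤ q ^ (m' + s) * q := by
          rw [mul_comm]; exact Nat.mul_le_mul_left _ hq3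
        omega
    · -- `γ ≥ 2`
      refine hstep.trans ?_
      rw [hd', pow_add q (m' + s) (t + m')]
      have h4 : 4 ≤ q ^ (t + m') := by
        calc 4 = 2 ^ 2 := by norm_num
          _ ≤ q ^ 2 := Nat.pow_le_pow_left hq2 2
          _ ≤ q ^ (t + m') := Nat.pow_le_pow_right hq0 hγ
      have : 4 * q ^ (m' + s) ≤ q ^ (m' + s) * q ^ (t + m') := by
        rw [mul_comm]; exact Nat.mul_le_mul_left _ h4
      omega

end Cfsg.Agent.Helper94.Au
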