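import Mathlib
import Cfsg.Agent.Helper94.Eo.Fin

set_option autoImplicit false
set_option linter.unusedSectionVars false
set_option linter.unusedVariables false

/-!
# (R3STR) structure of a monic polynomial with `χ.reverse = C ε * χ`, `ε² = 1`, over a finite field

MODEL (same skeleton, on main): the proof of `Cfsg.Agent.Helper94.Eo.exists_exponent` in `Cfsg/Agent/Helper94/Eo/Fin.lean`.
`split_roots χ hχ` (`Eo/P_CP.lean`): `χ = (X - 1) ^ a * (X + 1) ^ b * ψ`, `ψ` monic, `ψ(±1) ≠ 0`, `(2 = 0 → b = 0)`.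
`CP_core hχ.ne_zero ε hε hrev hfac h1 : SR ψ ∧ (-1) ^ a = ε` (`Eo/P_CP.lean`).
`ob_of_sr _ ψ rfl hψm hsr h1 hm1` (`Eo/Str.lean`): `ψ.natDegree = 2 * m'` and `OB q ψ m'`; degrees add: `a + b + 2 m' = natDegree χ`.
If `m' = 0`: `ψ = 1`, `Kψ := 1`.  Else `hob.bound hq2` (`Eo/P_BND.lean`) gives `N P` with `ψ ∣ X ^ (N * P) - 1`,
`(q - 1) * (N * P) ≤ q ^ (m' + 1)`, `(Odd q → deg ψ ≠ 0 → Even N)`; `Kψ := N * P`.
`p := ringChar F`, `t := clog p (max a b)`, `a, b ≤ p ^ t` (`Nat.le_pow_clog`); `cpart_dvd` (`Eo/P_CP.lean`, needs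
`[Fact p.Prime] [CharP F p]`): `(X - 1) ^ a ∣ X ^ (p^t) - 1`, `(X + 1) ^ b ∣ X ^ (p^t) + 1 ∣ X ^ (2 p^t) - 1` (`X_pow_add_one_dvd`; in
characteristic 2, `b = 0`).  All three coprime parts divide `X ^ K - 1`, `K := lcm Kψ (c * p ^ t)` (`X_pow_sub_one_dvd`,
`dvd_of_parts` in `Eo/P_CP.lean`).  `ringChar F = 2 ↔ (2 : F) = 0`; `Odd q ↔ ringChar F ≠ 2` (`odd_card_of_two_ne_zero`).
-/

namespace Cfsg.Agent.Helper94.Au

open Polynomial

theorem r3_structure {F : Type*} [Field F] [Fintype F] (χ : F[X]) (hχ : χ.Monic) (ε : F)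
    (hε : ε * ε = 1) (hrev : χ.reverse = C ε * χ) :
    ∃ a b m' Kψ : ℕ, a + b + 2 * m' = χ.natDegree ∧ (ringChar F = 2 → b = 0) ∧ 1 ≤ Kψ ∧
      (Fintype.card F - 1) * Kψ ≤ Fintype.card F ^ (m' + 1) ∧ (m' = 0 → Kψ = 1) ∧
      (ringChar F ≠ 2 → 1 ≤ m' → Even Kψ) ∧
      χ ∣ X ^ (Nat.lcm Kψ ((if ringChar F = 2 then 1 else 2) *
        ringChar F ^ Nat.clog (ringChar F) (max a b))) - 1 := by
  classical
  have hpf : Fact (ringChar F).Prime := ⟨CharP.char_is_prime F _⟩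
  have hp : (ringChar F).Prime := hpf.out
  have hq2 := Eo.two_le_card (F := F)
  -- `ringChar F = 2 ↔ (2 : F) = 0`
  have hchar_of : (2 : F) = 0 → ringChar F = 2 := by
    intro h2
    have h2' : ((2 : ℕ) : F) = 0 := by exact_mod_cast h2
    have hdvd : ringChar F ∣ 2 := (CharP.cast_eq_zero_iff F (ringChar F) 2).1 h2'
    rcases (Nat.dvd_prime Nat.prime_two).1 hdvd with h | h
    · exact absurd h hp.one_lt.ne'
    · exact h
  have htwo_of : ringChar F = 2 → (2 : F) = 0 := by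
    intro h
    have := CharP.cast_eq_zero F (ringChar F)
    rw [h] at this
    exact_mod_cast this
  obtain ⟨a, b, ψ, hψm, hfac, h1, hm1, hb0⟩ := Eo.split_roots χ hχ
  obtain ⟨hsr, -⟩ := Eo.CP_core hχ.ne_zero ε hε hrev hfac h1
  obtain ⟨m', hdeg', hob⟩ := Eo.ob_of_sr _ ψ rfl hψm hsr h1 hm1
  have hXs : (X - 1 : F[X]) = X - C 1 := by rw [map_one]
  have hXa : (X + 1 : F[X]) = X + C 1 := by rw [map_one]
  have hmon1 : ((X - 1 : F[X]) ^ a).Monic := by
    rw [hXs]; exact (monic_X_sub_C (1 : F)).pow a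
  have hmon2 : ((X + 1 : F[X]) ^ b).Monic := by
    rw [hXa]; exact (monic_X_add_C (1 : F)).pow b
  have hd1 : ((X - 1 : F[X]) ^ a).natDegree = a := by
    rw [hXs, (monic_X_sub_C (1 : F)).natDegree_pow, natDegree_X_sub_C, mul_one]
  have hd2 : ((X + 1 : F[X]) ^ b).natDegree = b := by
    rw [hXa, (monic_X_add_C (1 : F)).natDegree_pow, natDegree_X_add_C, mul_one]
  have hsum : a + b + 2 * m' = χ.natDegree := by
    rw [hfac, (hmon1.mul hmon2).natDegree_mul hψm, hmon1.natDegree_mul hmon2, hd1, hd2, hdeg']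
  -- the exponent of `ψ`
  obtain ⟨Kψ, hK1, hKb, hK0, hKe, hKd⟩ : ∃ Kψ : ℕ, 1 ≤ Kψ ∧
      (Fintype.card F - 1) * Kψ ≤ Fintype.card F ^ (m' + 1) ∧ (m' = 0 → Kψ = 1) ∧
      (ringChar F ≠ 2 → 1 ≤ m' → Even Kψ) ∧ ψ ∣ X ^ Kψ - 1 := by
    by_cases hm' : m' = 0
    · have hψ1 : ψ = 1 := by
        rw [hm', mul_zero] at hdeg'
        have := eq_C_of_natDegree_eq_zero hdeg'
        rw [this]
        have hl := hψm.leadingCoeff
        rw [leadingCoeff, hdeg'] at hl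
        rw [hl, map_one]
      refine ⟨1, le_refl 1, ?_, fun _ => rfl, fun _ h => by omega, ?_⟩
      · rw [mul_one, hm', zero_add, pow_one]
        exact Nat.sub_le _ _
      · rw [hψ1]; exact one_dvd _
    · obtain ⟨N, P, hN, hP, hdvd, hbound, hevenN⟩ := hob.bound hq2
      refine ⟨N * P, Nat.mul_pos hN hP, hbound, fun h => absurd h hm', ?_, hdvd⟩
      intro hc _
      have h2 : (2 : F) ≠ 0 := fun h => hc (hchar_of h)
      have hψdeg : ψ.natDegree ≠ 0 := by omega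
      exact (hevenN (Eo.odd_card_of_two_ne_zero h2) hψdeg).mul_right P
  refine ⟨a, b, m', Kψ, hsum, fun h => hb0 (htwo_of h), hK1, hKb, hK0, hKe, ?_⟩
  -- the `(X ∓ 1)`-parts
  have hta : a ≤ ringChar F ^ Nat.clog (ringChar F) (max a b) :=
    (le_max_left a b).trans (Nat.le_pow_clog hp.one_lt _)
  have htb : b ≤ ringChar F ^ Nat.clog (ringChar F) (max a b) :=
    (le_max_right a b).trans (Nat.le_pow_clog hp.one_lt _)
  have hcp := Eo.cpart_dvd (F := F) (p := ringChar F) hta htb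
  set PC := ringChar F ^ Nat.clog (ringChar F) (max a b) with hPC
  have hdK : Kψ ∣ Nat.lcm Kψ ((if ringChar F = 2 then 1 else 2) * PC) := Nat.dvd_lcm_left _ _
  have hdC : (if ringChar F = 2 then 1 else 2) * PC ∣
      Nat.lcm Kψ ((if ringChar F = 2 then 1 else 2) * PC) := Nat.dvd_lcm_right _ _
  apply Eo.dvd_of_parts hfac h1 hm1 hb0
  · exact hcp.1.trans (Eo.X_pow_sub_one_dvd ((Dvd.intro_left _ rfl).trans hdC))
  · by_cases h2 : (2 : F) = 0
    · rw [hb0 h2, pow_zero]; exact one_dvd _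
    · have hc : ringChar F ≠ 2 := fun h => h2 (htwo_of h)
      have e : (if ringChar F = 2 then 1 else 2) = 2 := if_neg hc
      have h2PC : 2 * PC = (if ringChar F = 2 then 1 else 2) * PC := by rw [e]
      have hdC' : 2 * PC ∣ Nat.lcm Kψ ((if ringChar F = 2 then 1 else 2) * PC) :=
        (dvd_of_eq h2PC).trans hdC
      exact hcp.2.trans (Eo.X_pow_add_one_dvd.trans (Eo.X_pow_sub_one_dvd hdC'))
  · exact hKd.trans (Eo.X_pow_sub_one_dvd hdK)

end Cfsg.Agent.Helper94.Au
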