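import Mathlib
import Cfsg.Agent.Helper94.Eo.Fin
import Cfsg.Agent.Helper94.Au.P_R3STR
import Cfsg.Agent.Helper94.Au.P_R3NUM0
import Cfsg.Agent.Helper94.Au.P_R3NUM1
import Cfsg.Agent.Helper94.Au.P_Q2

set_option autoImplicit false
set_option linter.unusedSectionVars false
set_option linter.unusedVariables false

/-!
# (R3GEN) glue: `χ` monic of degree `d ≥ 3`, `χ.reverse = C ((-1) ^ d) * χ`, `(d, q) ≠ (3, 2)` ⟹ `χ ∣ X ^ K - 1` with
`2 (q - 1) K ≤ q ^ d - 1`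

From the STATEMENTS of (R3STR), (R3NUM0), (R3NUM1), (Q2).  `p := ringChar F` prime, `q = p ^ f` (`Cfsg.Agent.Helper94.Eo.card_eq_pow`).
* `q = 2` and `d ∈ {4, 5}`: `(-1 : F) = 1` in characteristic 2, so `χ.reverse = χ`; `q2_small`; `2 * (2 - 1) * K = 2 K`.
* otherwise: `r3_structure χ hχ ((-1) ^ d) _ hrev` gives `a b m' Kψ`; if `m' = 0` then `Kψ = 1`, `Nat.lcm 1 x = x`, `r3_num_zero`;
  else `r3_num_pos`.  `K := lcm …`, `1 ≤ K` (`Nat.lcm_pos`).
-/

namespace Cfsg.Agent.Helper94.Au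

open Polynomial

theorem r3_gen {F : Type*} [Field F] [Fintype F] (χ : F[X]) (hχ : χ.Monic) (d : ℕ)
    (hd : χ.natDegree = d) (hd3 : 3 ≤ d) (h32 : ¬ (d = 3 ∧ Fintype.card F = 2))
    (hrev : χ.reverse = C ((-1 : F) ^ d) * χ) :
    ∃ K : ℕ, 1 ≤ K ∧ 2 * (Fintype.card F - 1) * K ≤ Fintype.card F ^ d - 1 ∧ χ ∣ X ^ K - 1 := by
  obtain ⟨f, hf, hq, hp⟩ := Cfsg.Agent.Helper94.Eo.card_eq_pow (F := F)
  by_cases hsmall : Fintype.card F = 2 ∧ d ≤ 5
  · -- `q = 2`, `d ∈ {4, 5}`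
    obtain ⟨hF2, hd5⟩ := hsmall
    have hd45 : d = 4 ∨ d = 5 := by
      have : d ≠ 3 := fun h => h32 ⟨h, hF2⟩
      omega
    have hchar2 : ringChar F = 2 := by
      have hdvd : ringChar F ∣ 2 := by
        rw [← hF2, hq]
        exact dvd_pow_self _ (by omega)
      exact (Nat.prime_dvd_prime_iff_eq hp Nat.prime_two).1 hdvd
    have h20 : (2 : F) = 0 := by
      have := CharP.cast_eq_zero F (ringChar F)
      rw [hchar2] at this
      exact_mod_cast this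
    have hneg : (-1 : F) = 1 := by
      rw [neg_eq_iff_add_eq_zero, one_add_one_eq_two, h20]
    have hrev' : χ.reverse = χ := by rw [hrev, hneg, one_pow, C_1, one_mul]
    obtain ⟨K, hK1, hK2, hK3⟩ := q2_small hF2 χ hχ (by rw [hd]; exact hd45) hrev'
    refine ⟨K, hK1, ?_, hK3⟩
    rw [hF2, ← hd]
    have : 2 * (2 - 1) * K = 2 * K := by norm_num
    rw [this]
    exact hK2
  · have hε : ((-1 : F) ^ d) * ((-1 : F) ^ d) = 1 := by
      rw [← mul_pow, neg_one_mul, neg_neg, one_pow]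
    obtain ⟨a, b, m', Kψ, hsum, hb, hK1, hK, hm0, hKe, hdvd⟩ :=
      r3_structure χ hχ ((-1 : F) ^ d) hε hrev
    rw [hd] at hsum
    refine ⟨_, ?_, ?_, hdvd⟩
    · apply Nat.lcm_pos hK1
      apply Nat.mul_pos
      · split_ifs <;> norm_num
      · exact pow_pos hp.pos _
    · rcases Nat.eq_zero_or_pos m' with hm | hm
      · rw [hm0 hm, Nat.lcm_one_left]
        exact r3_num_zero hp hf hq hd3 hsmall (by omega) hb
      · exact r3_num_pos hp hf hq hd3 hsmall hsum hm hb hK1 hK (fun h => hKe h hm)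

end Cfsg.Agent.Helper94.Au
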