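import Mathlib
import Cfsg.Agent.Helper94.Eo.P_CHAR
import Cfsg.Agent.Helper94.Au.P_R3GEN

set_option autoImplicit false
set_option linter.unusedSectionVars false
set_option linter.unusedVariables false

/-!
# (R3MAT) an isometry `N` (`Nᵀ B N = B`, `det B ≠ 0`, `det N = 1`) of a bilinear form on `F ^ d`, `d ≥ 3`, `(d, q) ≠ (3, 2)`,
satisfies `N ^ K = 1` for some `K ≥ 1` with `2 (q - 1) K ≤ q ^ d - 1`

`Cfsg.Agent.Helper94.Eo.charpoly_reverse_of_gram N B hB hN : N.det * N.det = 1 ∧ N.charpoly.reverse = C (N.det * (-1) ^ card ι) * N.charpoly`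
(`Eo/P_CHAR.lean`, `ι := Fin d`, `Fintype.card_fin`), with `det N = 1`: `reverse = C ((-1) ^ d) * charpoly`.
`charpoly` is monic of degree `d` (`Matrix.charpoly_monic`, `Matrix.charpoly_natDegree_eq_dim`).  `r3_gen` (statement) gives `K`;
Cayley-Hamilton (`Matrix.aeval_self_charpoly`): `aeval N (X ^ K - 1) = 0`, i.e. `N ^ K = 1`.
-/

namespace Cfsg.Agent.Helper94.Au

open Polynomial Matrix

theorem r3_matrix {F : Type*} [Field F] [Fintype F] {d : ℕ} (hd3 : 3 ≤ d)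
    (h32 : ¬ (d = 3 ∧ Fintype.card F = 2)) (N B : Matrix (Fin d) (Fin d) F) (hB : B.det ≠ 0)
    (hN : Nᵀ * B * N = B) (hdet : N.det = 1) :
    ∃ K : ℕ, 1 ≤ K ∧ 2 * (Fintype.card F - 1) * K ≤ Fintype.card F ^ d - 1 ∧ N ^ K = 1 := by
  obtain ⟨-, hrev⟩ := Cfsg.Agent.Helper94.Eo.charpoly_reverse_of_gram N B hB hN
  rw [hdet, one_mul, Fintype.card_fin] at hrev
  obtain ⟨K, hK1, hK2, hK3⟩ := r3_gen N.charpoly (Matrix.charpoly_monic N) d
    (by rw [Matrix.charpoly_natDegree_eq_dim, Fintype.card_fin]) hd3 h32 hrev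
  refine ⟨K, hK1, hK2, ?_⟩
  obtain ⟨c, hc⟩ := hK3
  have h1 := congrArg (Polynomial.aeval N) hc
  rw [map_mul, Matrix.aeval_self_charpoly, zero_mul, map_sub, map_pow, Polynomial.aeval_X,
    map_one] at h1
  exact sub_eq_zero.mp h1

end Cfsg.Agent.Helper94.Au
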