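import Mathlib
import Cfsg.Agent.Helper94.Au.Defs
import Cfsg.Agent.Helper94.Au.GMain
import Cfsg.Agent.Helper94.Au.P_ORD
import Cfsg.Agent.Helper94.Au.P_D2
import Cfsg.Agent.Helper94.Au.P_CONJ
import Cfsg.Agent.Helper94.Au.P_FIX
import Cfsg.Agent.Helper94.Au.P_MFIELD
import Cfsg.Agent.Helper94.Au.P_MUNI
import Cfsg.Agent.Helper94.Au.P_R3MAT
import Cfsg.Agent.Helper94.Au.P_NUM
import Cfsg.Agent.Helper94.Au.P_PGL
import Cfsg.Agent.Helper94.Eo.Fin
import Cfsg.Agent.Helper14.AutPreds

set_option autoImplicit false
set_option linter.unusedSectionVars false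
set_option linter.unusedVariables false

/-!
# S2262: every automorphism of `PSL_d(q)` has order at most `(q ^ d - 1) / (q - 1)` (assembly)
-/

namespace Cfsg.Agent.Helper94.Au

open Matrix Cfsg.Agent.Helper14.AutPSL Cfsg.Agent.Helper94.Pu

variable {F : Type*} [Field F] [Fintype F]

theorem gl_det_ne_zero {d : ℕ} (N : GL (Fin d) F) : (N : Matrix (Fin d) (Fin d) F).det ≠ 0 :=
  ((Matrix.isUnit_iff_isUnit_det _).1 N.isUnit).ne_zero

theorem orderOf_ringAut_pos (σ : F ≃+* F) : 0 < orderOf σ := by
  have : Finite (F ≃+* F) := Finite.of_injective (fun e : F ≃+* F => (e : F → F))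
    (fun a b h => RingEquiv.ext (congrFun h))
  exact orderOf_pos σ

theorem card_ge_two : 2 ≤ Fintype.card F := Fintype.one_lt_card

/-- the bound for one normal form -/
theorem bound_of_factor {d : ℕ} (hd : 2 ≤ d) (h24 : ¬ (d = 2 ∧ Fintype.card F = 4))
    (h32 : ¬ (d = 3 ∧ Fintype.card F = 2)) (g : GL (Fin d) F) (σ : F ≃+* F) (ε : Bool)
    (hε : ε = true → 3 ≤ d) :
    (Fintype.card F - 1) *
      orderOf (pslOf (slConj g * slField σ * slT ε) :
        MulAut (Matrix.SpecialLinearGroup (Fin d) F ⧸
          Subgroup.center (Matrix.SpecialLinearGroup (Fin d) F))) ≤ Fintype.card F ^ d - 1 := by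
  obtain ⟨N, hpow, hθ, hNm⟩ := exists_norm g σ ε
  have he := orderOf_ringAut_pos σ
  have hdetN := gl_det_ne_zero N
  set q := Fintype.card F with hq
  cases ε with
  | false =>
    have hk : kzero σ false = orderOf σ := by unfold kzero; simp
    rw [hk] at hpow
    by_cases he1 : orderOf σ = 1
    · have hσ : σ = 1 := orderOf_eq_one_iff.mp he1
      have hα : (slConj g * slField σ * slT false :
          MulAut (Matrix.SpecialLinearGroup (Fin d) F)) = slConj g := by
        rw [hσ, slField_one]
        unfold slT
        simp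
      rw [hα]
      exact inndiag_order_le hd g
    · have he2 : 2 ≤ orderOf σ := by omega
      have hconj := isConj_map_false σ g N hθ
      obtain ⟨q₀, j, c, hq₀, hq₀e, hj1, hjb, hNj⟩ :=
        exists_scalar_pow_of_map_conj (by omega : 1 ≤ d) σ (N : Matrix (Fin d) (Fin d) F) hdetN hconj
      have hord := orderOf_le_of_norm _ (orderOf σ) N hpow j c hNj (Nat.mul_pos he hj1)
      calc (q - 1) * orderOf (pslOf (slConj g * slField σ * slT false))
          ≤ (q - 1) * (orderOf σ * j) := Nat.mul_le_mul_left _ hord
        _ ≤ q ^ d - 1 := num_field hq₀ he2 hq₀e hd h24 hjb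
  | true =>
    have hd3 : 3 ≤ d := hε rfl
    have hk : kzero σ true = Nat.lcm (orderOf σ) 2 := by unfold kzero; simp
    by_cases he1 : orderOf σ = 1
    · -- graph automorphisms
      have hσ : σ = 1 := orderOf_eq_one_iff.mp he1
      subst hσ
      have hk2 : kzero (1 : F ≃+* F) true = 2 := by rw [hk, he1]; rfl
      rw [hk2] at hpow
      have hgram := gram_of_invT g N hθ
      have hNeq : N = g * glInvT g := by rw [hNm]; exact norm_graph g
      have hdet1 : (N : Matrix (Fin d) (Fin d) F).det = 1 := by
        rw [hNeq, Units.val_mul, det_mul, glInvT_coe, det_transpose, ← det_mul, gl_mul_inv, det_one]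
      have hB : (((g⁻¹ : GL (Fin d) F)) : Matrix (Fin d) (Fin d) F).det ≠ 0 := gl_det_ne_zero _
      obtain ⟨K, hK1, hKb, hNK⟩ := r3_matrix hd3 h32 (N : Matrix (Fin d) (Fin d) F) _ hB hgram hdet1
      have hNK' : (N : Matrix (Fin d) (Fin d) F) ^ K = (1 : F) • (1 : Matrix (Fin d) (Fin d) F) := by
        rw [hNK, one_smul]
      have hord := orderOf_le_of_norm _ 2 N hpow K 1 hNK' (by omega)
      calc (q - 1) * orderOf (pslOf (slConj g * slField (1 : F ≃+* F) * slT true))
          ≤ (q - 1) * (2 * K) := Nat.mul_le_mul_left _ hord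
        _ = 2 * (q - 1) * K := by ring
        _ ≤ q ^ d - 1 := hKb
    · by_cases he2 : orderOf σ = 2
      · -- graph-field involution: unitary
        have hk2 : kzero σ true = 2 := by rw [hk, he2]; rfl
        rw [hk2] at hpow
        obtain ⟨p, f₀, q₀, E, μ, hp, hf₀, hq₀, hcard, hE1, hEb, hNE⟩ :=
          exists_scalar_pow_unitary hd3 σ he2 g N hθ
        have hord := orderOf_le_of_norm _ 2 N hpow E μ hNE (by omega)
        calc (q - 1) * orderOf (pslOf (slConj g * slField σ * slT true))
            ≤ (q - 1) * (2 * E) := Nat.mul_le_mul_left _ hord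
          _ ≤ q ^ d - 1 := num_unitary hp hf₀ hq₀ hcard hd3 hEb
      · have he3 : 3 ≤ orderOf σ := by omega
        have hsq := isConj_map_sq_true σ g N hθ
        rcases Nat.even_or_odd (orderOf σ) with hev | hodd
        · -- even order at least 4: descend along σ²
          obtain ⟨r, hr⟩ := hev
          have hr2 : 2 ≤ r := by omega
          have hkr : kzero σ true = 2 * r := by
            rw [hk, hr]
            have : r + r = r * 2 := by ring
            rw [this, Nat.lcm_comm]
            exact Nat.lcm_eq_right (Dvd.intro_left r rfl) |>.trans (by ring)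
          rw [hkr] at hpow
          have hoρ : orderOf (σ * σ : F ≃+* F) = r := by
            rw [← sq, orderOf_pow' σ (by norm_num : (2 : ℕ) ≠ 0), hr]
            have : Nat.gcd (r + r) 2 = 2 := by
              have : r + r = 2 * r := by ring
              rw [this, Nat.gcd_mul_right_left]
            rw [this]
            omega
          obtain ⟨q₁, j, c, hq₁, hq₁e, hj1, hjb, hNj⟩ :=
            exists_scalar_pow_of_map_conj (by omega : 1 ≤ d) (σ * σ : F ≃+* F)
              (N : Matrix (Fin d) (Fin d) F) hdetN hsq
          rw [hoρ] at hq₁e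
          -- `q₁` is a square at least 4
          obtain ⟨F₀, -, hF₀⟩ := exists_fixed_subfield σ
          rw [hr] at hF₀
          have hn2 : 2 ≤ Nat.card F₀ := by
            by_contra hcon
            have hle : Nat.card F₀ ≤ 1 := by omega
            have : Nat.card F₀ ^ (r + r) ≤ 1 := Nat.pow_le_one_iff (by omega) |>.mpr hle
            have hq2 := card_ge_two (F := F)
            omega
          have hq₁4 : 4 ≤ q₁ := by
            have h1 : q₁ ^ r = (Nat.card F₀ ^ 2) ^ r := by
              rw [hq₁e, ← hF₀, ← pow_mul]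
              congr 1
              ring
            have h2 : q₁ = Nat.card F₀ ^ 2 := Nat.pow_left_injective (by omega : r ≠ 0) h1
            rw [h2]
            calc 4 = 2 ^ 2 := by norm_num
              _ ≤ Nat.card F₀ ^ 2 := Nat.pow_le_pow_left hn2 2
          have hord := orderOf_le_of_norm _ (2 * r) N hpow j c hNj (by positivity)
          calc (q - 1) * orderOf (pslOf (slConj g * slField σ * slT true))
              ≤ (q - 1) * (2 * r * j) := Nat.mul_le_mul_left _ hord
            _ ≤ q ^ d - 1 := num_gf_even hq₁4 hr2 hq₁e hd3 hjb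
        · -- odd order at least 3: σ is a power of σ²
          obtain ⟨r, hr⟩ := hodd
          have hkr : kzero σ true = 2 * orderOf σ := by
            rw [hk]
            have hcop : Nat.Coprime (orderOf σ) 2 := by
              rw [hr]
              have h21 : Nat.Coprime (2 * r + 1) 2 := by
                rw [Nat.coprime_comm, Nat.coprime_mul_left_add_right]
                exact Nat.coprime_one_right 2
              exact h21
            rw [hcop.lcm_eq_mul, mul_comm]
          rw [hkr] at hpow
          have hpowσ : ((σ * σ : F ≃+* F)) ^ (r + 1) = σ := by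
            rw [← sq, ← pow_mul]
            have : 2 * (r + 1) = orderOf σ + 1 := by omega
            rw [this, pow_succ, pow_orderOf_eq_one, one_mul]
          have hconj := isConj_map_pow (σ * σ : F ≃+* F) (N : Matrix (Fin d) (Fin d) F) hsq (r + 1)
          rw [hpowσ] at hconj
          obtain ⟨q₀, j, c, hq₀, hq₀e, hj1, hjb, hNj⟩ :=
            exists_scalar_pow_of_map_conj (by omega : 1 ≤ d) σ (N : Matrix (Fin d) (Fin d) F) hdetN hconj
          have hord := orderOf_le_of_norm _ (2 * orderOf σ) N hpow j c hNj (by positivity)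
          calc (q - 1) * orderOf (pslOf (slConj g * slField σ * slT true))
              ≤ (q - 1) * (2 * orderOf σ * j) := Nat.mul_le_mul_left _ hord
            _ ≤ q ^ d - 1 := num_gf_odd hq₀ he3 hq₀e hd3 hjb

end Cfsg.Agent.Helper94.Au
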