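import Mathlib
import Cfsg.Agent.Helper94.Au.Main

set_option autoImplicit false
set_option linter.unusedSectionVars false
set_option linter.unusedVariables false

/-!
# S2262: every automorphism of `PSL_d(q)` has order at most `(q ^ d - 1) / (q - 1)`, with equality attained
-/

namespace Cfsg.Agent.Helper94.Au

open Matrix Cfsg.Agent.Helper14.AutPSL Cfsg.Agent.Helper94.Pu

variable {F : Type*} [Field F] [Fintype F]

theorem aut_bound {d : ℕ} (hd : 2 ≤ d) (h24 : ¬ (d = 2 ∧ Fintype.card F = 4))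
    (h32 : ¬ (d = 3 ∧ Fintype.card F = 2))
    (β : MulAut (Matrix.ProjectiveSpecialLinearGroup (Fin d) F)) :
    (Fintype.card F - 1) * orderOf β ≤ Fintype.card F ^ d - 1 := by
  obtain ⟨f, hf, hq, hp⟩ := Cfsg.Agent.Helper94.Eo.card_eq_pow (F := F)
  have : Fact (ringChar F).Prime := ⟨hp⟩
  obtain ⟨g, σ, ε, hβ⟩ := exists_factorization hq hf hd β
  have hβ' : β = pslOf (slConj g * slField σ * slT ε) := by
    rw [hβ, map_mul, map_mul]
  by_cases h2 : d = 2
  · subst h2
    obtain ⟨g', hg'⟩ := absorb_two g σ ε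
    rw [hβ', hg']
    exact bound_of_factor hd h24 h32 g' σ false (by simp)
  · rw [hβ']
    exact bound_of_factor hd h24 h32 g σ ε (fun _ => by omega)

theorem aut_exists {d : ℕ} (hd : 2 ≤ d) :
    ∃ φ : MulAut (Matrix.ProjectiveSpecialLinearGroup (Fin d) F),
      (Fintype.card F - 1) * orderOf φ = Fintype.card F ^ d - 1 := by
  obtain ⟨g, hg⟩ := exists_inndiag_order_eq (F := F) hd
  exact ⟨pslOf (slConj g), hg⟩

end Cfsg.Agent.Helper94.Au
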